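import Cfsg.Agent.Lib.SFourW.StepA

/-!
# From a normal elementary abelian subgroup to a module, and other tools
-/

set_option autoImplicit false
set_option linter.unusedSectionVars false
set_option linter.unusedSimpArgs false
set_option linter.unusedVariables false
set_option linter.style.haveILetI false

namespace Cfsg.Agent.Lib.SFourW.Bridge

open Subgroup Cfsg
open scoped commutatorElement
open Cfsg.Agent.Lib.SFourW.Idx Cfsg.Agent.Lib.SFourW.ML Cfsg.Agent.Lib.SFourW.GSec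
open Cfsg.Agent.Lib.SFourW.Struct Cfsg.Agent.Lib.SFourW.StepA
open Cfsg.Agent.Lib.SFourW.Dih Cfsg.Agent.Lib.SFourW.Sec Cfsg.Agent.Lib.SFourW.Tight
open Cfsg.Agent.Lib.PLocal.Thompson Cfsg.Agent.Lib.Core.Basic
open Cfsg.Agent.Lib.QuadAct.FFQuot Cfsg.Agent.Lib.QuadAct.Replacement

universe u

variable {H : Type u} [Group H] [Finite H]

theorem four_le_relIndex {C F : Subgroup H} (hF : IsPGroup 2 F) {f₁ f₂ : H} (h₁ : f₁ ∈ F)
    (h₂ : f₂ ∈ F) (n₁ : f₁ ∉ C) (n₂ : f₂ ∉ C) (n₃ : f₁ * f₂ ∉ C) : 4 ≤ C.relIndex F := by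
  haveI := fact2
  by_contra hcon
  push_neg at hcon
  have h0 : C.relIndex F ≠ 0 := by
    unfold relIndex
    exact index_ne_zero_of_finite
  have h1 : C.relIndex F ≠ 1 := fun e => n₁ (relIndex_eq_one.mp e h₁)
  have h2 : C.relIndex F ≠ 2 := fun e =>
    n₃ (mul_mem_of_relIndex_le_two (by omega) h₁ h₂ n₁ n₂)
  have h3 : C.relIndex F ≠ 3 := by
    intro e
    have h4 := relIndex_dvd_card C F
    obtain ⟨k, hk⟩ := IsPGroup.iff_card.mp hF
    rw [e, hk] at h4
    have := Nat.Prime.dvd_of_dvd_pow Nat.prime_three h4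
    omega
  omega

theorem exists_conj_into (T : Sylow 2 H) {L B : Subgroup H} (hTL : (T : Subgroup H) ≤ L)
    (hBL : B ≤ L) (hB : IsPGroup 2 B) : ∃ m ∈ L, B.map (cj m) ≤ T := by
  haveI := fact2
  have hB' : IsPGroup 2 (B.subgroupOf L) := hB.comap_of_injective _ L.subtype_injective |>.to_le
    (by
      intro x hx
      exact hx)
  obtain ⟨S, hS⟩ := hB'.exists_le_sylow
  obtain ⟨m, hm⟩ := MulAction.exists_smul_eq L S (T.subtype hTL)
  refine ⟨m, m.2, ?_⟩
  rintro _ ⟨b, hb, rfl⟩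
  have h1 : (⟨b, hBL hb⟩ : L) ∈ S := hS hb
  have h2 : (MulAut.conj m) • (⟨b, hBL hb⟩ : L) ∈ ((m • S : Sylow 2 L) : Subgroup L) := by
    rw [Sylow.coe_subgroup_smul]
    exact Subgroup.smul_mem_pointwise_smul _ (MulAut.conj m) _ h1
  rw [hm, Sylow.coe_subtype] at h2
  show (m : H) * b * (m : H)⁻¹ ∈ (T : Subgroup H)
  exact h2

theorem hoff_of_max {P V A : Subgroup H} (hV : IsElementaryAbelian 2 V) (hVP : V ≤ P)
    (hA : IsMaxIn 0 P A) :
    Nat.card V * Nat.card ↥(A ⊓ centralizer (V : Set H)) ≤ offProd V A := by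
  set K := A ⊓ centralizer (V : Set H) with hK
  have hVab : IsAbExp 0 V := by
    rw [isAbExp_iff]
    exact ⟨fun a ha b hb => Cfsg.Agent.Lib.QuadAct.Basic.comm_of_isMulCommutative hV.1 ha hb,
      fun a _ => by simp⟩
  have hKab : IsAbExp 0 K := hA.2.1.mono inf_le_left
  have hVK : ∀ a ∈ V, ∀ b ∈ K, a * b = b * a := fun a ha b hb =>
    mem_centralizer_iff.1 hb.2 a ha
  have hB : IsAbExp 0 (V ⊔ K) := hVab.sup hKab hVK
  have hBP : V ⊔ K ≤ P := sup_le hVP (inf_le_left.trans hA.1)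
  have h1 := hA.2.2 _ hBP hB
  have hn : V ≤ normalizer (K : Set H) :=
    le_trans (fun v hv => mem_centralizer_iff.2 fun k hk => (hVK v hv k hk).symm)
      (Subgroup.centralizer_le_normalizer _)
  have h2 := Cfsg.Agent.Lib.QuadAct.Basic.card_sup_mul_card_inf_of_le_normalizer V K hn
  have h3 : V ⊓ K ≤ V ⊓ centralizer (A : Set H) := by
    rintro x ⟨hx1, hx2⟩
    refine ⟨hx1, mem_centralizer_iff.2 fun a ha => hA.2.1.comm ha hx2.1⟩
  have h4 := Subgroup.card_le_of_le h3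
  rw [← h2]
  exact Nat.mul_le_mul h1 h4

theorem mem_cz {g z : H} : z ∈ centralizer ((zpowers g : Subgroup H) : Set H) ↔ g * z = z * g := by
  constructor
  · intro h
    exact mem_centralizer_iff.mp h g (mem_zpowers g)
  · intro h
    refine mem_centralizer_iff.mpr ?_
    rintro _ ⟨k, rfl⟩
    have h1 : Commute g z := h
    exact (h1.zpow_left k).eq

/-- The module attached to an elementary abelian subgroup. -/
structure Br (D₁ : Subgroup H) {M : Type u} [AddCommGroup M] [Module (ZMod 2) M] {Γ : Type u}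
    [Group Γ] (π : normalizer (D₁ : Set H) →* Γ) (ρ₀ : Γ →* Module.End (ZMod 2) M) (ι : M → H) :
    Prop where
  faith : Function.Injective ρ₀
  ker : ∀ g, π g = 1 ↔ (g : H) ∈ centralizer (D₁ : Set H)
  add : ∀ a b, ι (a + b) = ι a * ι b
  inj : Function.Injective ι
  mem : ∀ m, ι m ∈ D₁
  surj : ∀ d ∈ D₁, ∃ m, ι m = d
  conj : ∀ (g : normalizer (D₁ : Set H)) (m : M), ι (ρ₀ (π g) m) = (g : H) * ι m * (g : H)⁻¹

theorem exists_br (D₁ : Subgroup H) (hD : IsElementaryAbelian 2 D₁) :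
    ∃ (M : Type u) (_ : AddCommGroup M) (_ : Module (ZMod 2) M) (_ : Finite M)
      (Γ : Type u) (_ : Group Γ) (π : normalizer (D₁ : Set H) →* Γ)
      (ρ₀ : Γ →* Module.End (ZMod 2) M) (ι : M → H), Br D₁ π ρ₀ ι := by
  haveI := fact2
  set L := normalizer (D₁ : Set H) with hL
  have hle : D₁ ≤ L := le_normalizer
  haveI hVn : (D₁.subgroupOf L).Normal := normal_in_normalizer
  have hVe : IsElementaryAbelian 2 (D₁.subgroupOf L) :=
    IsAbExp.comap_of_injective (e := 2) hD L.subtype L.subtype_injective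
  obtain ⟨M, i1, i2, i3, ρ, ι, D⟩ := exists_coordQ (p := 2) hVe
  refine ⟨M, i1, i2, i3, _, inferInstance, piV (D₁.subgroupOf L), ρ, fun m => ((ι m : L) : H), ?_⟩
  refine ⟨D.faith, ?_, ?_, ?_, ?_, ?_, ?_⟩
  · intro g
    rw [← MonoidHom.mem_ker, piV_ker]
    constructor
    · intro h
      refine mem_centralizer_iff.mpr fun d hd => ?_
      have h1 := mem_centralizer_iff.mp h ⟨d, hle hd⟩ hd
      exact congrArg Subtype.val h1
    · intro h
      refine mem_centralizer_iff.mpr fun d hd => ?_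
      apply Subtype.ext
      exact mem_centralizer_iff.mp h (d : H) hd
  · intro a b
    rw [D.add]
    rfl
  · intro a b hab
    exact D.inj (Subtype.ext hab)
  · intro m
    exact D.mem m
  · intro d hd
    obtain ⟨m, hm⟩ := D.surj ⟨d, hle hd⟩ hd
    exact ⟨m, congrArg Subtype.val hm⟩
  · intro g m
    have := D.conj g m
    exact congrArg Subtype.val this

namespace Br

variable {D₁ : Subgroup H} {M : Type u} [AddCommGroup M] [Module (ZMod 2) M] [Finite M] {Γ : Type u}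
  [Group Γ] {π : normalizer (D₁ : Set H) →* Γ} {ρ₀ : Γ →* Module.End (ZMod 2) M} {ι : M → H}
  (D : Br D₁ π ρ₀ ι)

include D

theorem fix_iff (g : normalizer (D₁ : Set H)) (m : M) :
    ρ₀ (π g) m = m ↔ (g : H) * ι m = ι m * (g : H) := by
  constructor
  · intro h
    have h1 := D.conj g m
    rw [h] at h1
    calc (g : H) * ι m = ((g : H) * ι m * (g : H)⁻¹) * (g : H) := by group
      _ = ι m * (g : H) := by rw [← h1]
  · intro h
    apply D.inj
    rw [D.conj, h]
    group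

theorem triv_iff (g : normalizer (D₁ : Set H)) :
    (∀ m, ρ₀ (π g) m = m) ↔ (g : H) ∈ centralizer (D₁ : Set H) := by
  constructor
  · intro h
    refine mem_centralizer_iff.mpr fun d hd => ?_
    obtain ⟨m, rfl⟩ := D.surj d hd
    exact ((D.fix_iff g m).mp (h m)).symm
  · intro h m
    exact (D.fix_iff g m).mpr (mem_centralizer_iff.mp h (ι m) (D.mem m)).symm

theorem card_M : Nat.card M = Nat.card D₁ := by
  refine Nat.card_congr (Equiv.ofBijective (fun m => ⟨ι m, D.mem m⟩) ⟨?_, ?_⟩)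
  · intro a b hab
    exact D.inj (congrArg Subtype.val hab)
  · rintro ⟨d, hd⟩
    obtain ⟨m, rfl⟩ := D.surj d hd
    exact ⟨m, rfl⟩

theorem card_ker (g : normalizer (D₁ : Set H)) :
    Nat.card (LinearMap.ker (tau (ρ₀.comp π) g)) =
      Nat.card ↥(D₁ ⊓ centralizer ((zpowers (g : H) : Subgroup H) : Set H)) := by
  have hmem : ∀ m, m ∈ LinearMap.ker (tau (ρ₀.comp π) g) ↔ (g : H) * ι m = ι m * (g : H) := by
    intro m
    rw [LinearMap.mem_ker, tau_apply, ← D.fix_iff]
    show ρ₀ (π g) m + m = 0 ↔ _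
    constructor
    · exact eq_of_add_zero
    · intro h
      rw [h, aa]
  refine Nat.card_congr (Equiv.ofBijective (fun m => ⟨ι m, D.mem m, mem_cz.mpr ((hmem m).mp m.2)⟩)
    ⟨?_, ?_⟩)
  · intro a b hab
    exact Subtype.ext (D.inj (congrArg Subtype.val hab))
  · rintro ⟨d, hd, hd2⟩
    obtain ⟨m, rfl⟩ := D.surj d hd
    exact ⟨⟨m, (hmem m).mpr (mem_cz.mp hd2)⟩, rfl⟩

theorem card_le_iff (g : normalizer (D₁ : Set H)) :
    Nat.card M ≤ 4 * Nat.card (LinearMap.ker (tau (ρ₀.comp π) g)) ↔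
      cI D₁ (zpowers (g : H)) ≤ 4 := by
  rw [D.card_ker, D.card_M, ← card_mul_cI D₁ (zpowers (g : H)), mul_comm 4]
  have h : 0 < Nat.card ↥(D₁ ⊓ centralizer ((zpowers (g : H) : Subgroup H) : Set H)) := Nat.card_pos
  exact Nat.mul_le_mul_left_iff h

end Br

end Cfsg.Agent.Lib.SFourW.Bridge
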