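import Cfsg.Agent.Lib.SFourW.ML

/-!
# Elementary abelian sections of a normal `2`-subgroup on which an odd element acts nontrivially
-/

set_option autoImplicit false
set_option linter.unusedSectionVars false
set_option linter.unusedSimpArgs false
set_option linter.unusedVariables false
set_option linter.style.haveILetI false

namespace Cfsg.Agent.Lib.SFourW.GSec

open Subgroup
open scoped commutatorElement
open Cfsg.Agent.Lib.SFourW.Dih Cfsg.Agent.Lib.SFourW.Sec Cfsg.Agent.Lib.SFourW.Tight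
  Cfsg.Agent.Lib.SFourW.Idx Cfsg.Agent.Lib.SFourW.ML
open Cfsg.Agent.Lib.QuadAct.FFBasic Cfsg.Agent.Lib.QuadAct.FFQuot

universe u

variable {X : Type u} [Group X] [Finite X]

theorem mk_comm_eq_one {N : Subgroup X} [N.Normal] {a b : X}
    (h : ⁅a, b⁆ ∈ N) : (QuotientGroup.mk' N a) * (QuotientGroup.mk' N b) =
      (QuotientGroup.mk' N b) * (QuotientGroup.mk' N a) := by
  have h1 : (QuotientGroup.mk' N) ⁅a, b⁆ = 1 := by
    rw [QuotientGroup.mk'_apply, QuotientGroup.eq_one_iff]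
    exact h
  rw [commutatorElement_def, map_mul, map_mul, map_mul, map_inv, map_inv] at h1
  rw [mul_inv_eq_one] at h1
  rw [mul_inv_eq_iff_eq_mul] at h1
  exact h1

theorem comm_mem_of_mk {N : Subgroup X} [N.Normal] {a b : X}
    (h : (QuotientGroup.mk' N a) * (QuotientGroup.mk' N b) =
      (QuotientGroup.mk' N b) * (QuotientGroup.mk' N a)) : ⁅a, b⁆ ∈ N := by
  rw [← QuotientGroup.eq_one_iff, ← QuotientGroup.mk'_apply, commutatorElement_def, map_mul,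
    map_mul, map_mul, map_inv, map_inv, h]
  group

/-- A section of `P`. -/
theorem exists_gsec (P : Subgroup X) [hPn : P.Normal] (hP : IsPGroup 2 P) (u : X)
    (hodd : Odd (orderOf u)) (hmove : ∃ p ∈ P, u * p * u⁻¹ ≠ p) :
    ∃ N₁ N₂ : Subgroup X, N₁.Normal ∧ N₂.Normal ∧ N₁ ≤ N₂ ∧ N₂ ≤ P ∧
      (∀ n ∈ N₂, ∀ p ∈ P, ⁅n, p⁆ ∈ N₁) ∧ (∀ n ∈ N₂, n ^ 2 ∈ N₁) ∧ ∃ n ∈ N₂, ⁅u, n⁆ ∉ N₁ := by
  classical
  haveI : Fact (Nat.Prime 2) := ⟨Nat.prime_two⟩
  let F : Set (Subgroup X) := {N | N.Normal ∧ N ≤ P ∧ ∃ p ∈ P, ⁅u, p⁆ ∉ N}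
  have hF : F.Nonempty := by
    obtain ⟨p, hp, hup⟩ := hmove
    refine ⟨⊥, inferInstance, bot_le, p, hp, ?_⟩
    rw [mem_bot, commutatorElement_def]
    intro e
    exact hup (mul_inv_eq_one.mp e)
  obtain ⟨N₁, hN₁⟩ := (Set.toFinite F).exists_maximal hF
  obtain ⟨hNn, hNP, p₀, hp₀, hp₀N⟩ := hN₁.1
  haveI := hNn
  let N₂ : Subgroup X :=
    { carrier := {n | n ∈ P ∧ (∀ p ∈ P, ⁅n, p⁆ ∈ N₁) ∧ n ^ 2 ∈ N₁}
      one_mem' := ⟨P.one_mem, fun p _ => by rw [commutatorElement_one_left]; exact N₁.one_mem,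
        by rw [one_pow]; exact N₁.one_mem⟩
      mul_mem' := by
        rintro a b ⟨ha, ha1, ha2⟩ ⟨hb, hb1, hb2⟩
        refine ⟨P.mul_mem ha hb, fun p hp => ?_, ?_⟩
        · have e : ⁅a * b, p⁆ = a * ⁅b, p⁆ * a⁻¹ * ⁅a, p⁆ := by
            simp only [commutatorElement_def]
            group
          rw [e]
          exact N₁.mul_mem (hNn.conj_mem _ (hb1 p hp) a) (ha1 p hp)
        · have e : (a * b) ^ 2 = (a * ⁅b, a⁆ * a⁻¹) * (a ^ 2 * b ^ 2) := by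
            simp only [commutatorElement_def, pow_two]
            group
          rw [e]
          exact N₁.mul_mem (hNn.conj_mem _ (hb1 a ha) a) (N₁.mul_mem ha2 hb2)
      inv_mem' := by
        rintro a ⟨ha, ha1, ha2⟩
        refine ⟨P.inv_mem ha, fun p hp => ?_, ?_⟩
        · have e : ⁅a⁻¹, p⁆ = a⁻¹ * ⁅a, p⁆⁻¹ * a⁻¹⁻¹ := by
            simp only [commutatorElement_def]
            group
          rw [e]
          exact hNn.conj_mem _ (N₁.inv_mem (ha1 p hp)) a⁻¹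
        · rw [inv_pow]
          exact N₁.inv_mem ha2 }
  have hN₂mem : ∀ n, n ∈ N₂ ↔ n ∈ P ∧ (∀ p ∈ P, ⁅n, p⁆ ∈ N₁) ∧ n ^ 2 ∈ N₁ := fun n => Iff.rfl
  have hN₂n : N₂.Normal := by
    constructor
    rintro n ⟨hn, hn1, hn2⟩ g
    refine ⟨hPn.conj_mem _ hn g, fun p hp => ?_, ?_⟩
    · have e : ⁅g * n * g⁻¹, p⁆ = g * ⁅n, g⁻¹ * p * g⁆ * g⁻¹ := by
        simp only [commutatorElement_def]
        group
      rw [e]
      refine hNn.conj_mem _ (hn1 _ ?_) g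
      have := hPn.conj_mem _ hp g⁻¹
      rwa [inv_inv] at this
    · rw [conj_pow]
      exact hNn.conj_mem _ hn2 g
  have hle : N₁ ≤ N₂ := by
    intro n hn
    refine ⟨hNP hn, fun p hp => ?_, ?_⟩
    · rw [commutatorElement_def]
      exact N₁.mul_mem (hNn.conj_mem _ hn p |> fun h => by
        have e : n * p * n⁻¹ * p⁻¹ = n * (p * n⁻¹ * p⁻¹) := by group
        rw [e]
        exact N₁.mul_mem hn (hNn.conj_mem _ (N₁.inv_mem hn) p)) N₁.one_mem |> fun h => by simpa using h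
    · rw [pow_two]
      exact N₁.mul_mem hn hn
  -- `N₂` is bigger
  have hlt : ∃ n ∈ N₂, n ∉ N₁ := by
    let π := QuotientGroup.mk' N₁
    have hPnt : Nontrivial (P.map π) := by
      rw [Subgroup.nontrivial_iff_ne_bot]
      intro h
      apply hp₀N
      have h1 : π ⁅u, p₀⁆ = 1 := by
        have h2 : ⁅u, p₀⁆ ∈ P := by
          rw [commutatorElement_def]
          exact P.mul_mem (hPn.conj_mem _ hp₀ u) (P.inv_mem hp₀)
        have h3 : π ⁅u, p₀⁆ ∈ P.map π := mem_map_of_mem π h2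
        rw [h, mem_bot] at h3
        exact h3
      rw [QuotientGroup.mk'_apply, QuotientGroup.eq_one_iff] at h1
      exact h1
    have hPp : IsPGroup 2 (P.map π) := hP.map π
    haveI := hPp.center_nontrivial
    obtain ⟨z, hz⟩ := exists_ne (1 : center (P.map π))
    -- element of order two
    have hzz : ∃ a, ((z : P.map π) : X ⧸ N₁) ^ 2 ^ a ≠ 1 ∧ (((z : P.map π) : X ⧸ N₁) ^ 2 ^ a) ^ 2 = 1 := by
      obtain ⟨k, hk⟩ := hPp (z : P.map π)
      have hk1 : ((z : P.map π) : X ⧸ N₁) ^ 2 ^ k = 1 := by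
        have := congrArg Subtype.val hk
        simpa using this
      have hz1 : ((z : P.map π) : X ⧸ N₁) ≠ 1 := by
        intro e
        exact hz (Subtype.ext (Subtype.ext e))
      classical
      have hex : ∃ j, ((z : P.map π) : X ⧸ N₁) ^ 2 ^ j = 1 := ⟨k, hk1⟩
      let j := Nat.find hex
      have hj : ((z : P.map π) : X ⧸ N₁) ^ 2 ^ j = 1 := Nat.find_spec hex
      have hj0 : j ≠ 0 := by
        intro e
        rw [e, pow_zero, pow_one] at hj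
        exact hz1 hj
      obtain ⟨a, ha⟩ : ∃ a, j = a + 1 := ⟨j - 1, by omega⟩
      refine ⟨a, ?_, ?_⟩
      · exact Nat.find_min hex (show a < j by omega)
      · rw [← pow_mul, ← pow_succ, ← ha]
        exact hj
    obtain ⟨a, ha1, ha2⟩ := hzz
    obtain ⟨n₀, hn₀, hn₀z⟩ := (z : P.map π).2
    refine ⟨n₀ ^ 2 ^ a, ⟨P.pow_mem hn₀ _, fun p hp => ?_, ?_⟩, ?_⟩
    · apply comm_mem_of_mk
      have hcen : ∀ y : P.map π, y * (z : P.map π) = (z : P.map π) * y := by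
        intro y
        exact (Subgroup.mem_center_iff.mp z.2) y
      have h1 := hcen ⟨π p, mem_map_of_mem π hp⟩
      have h2 := congrArg Subtype.val h1
      simp only [Subgroup.coe_mul] at h2
      rw [map_pow]
      show (π n₀) ^ 2 ^ a * π p = π p * (π n₀) ^ 2 ^ a
      rw [hn₀z]
      have h3 : Commute (π p) ((z : P.map π) : X ⧸ N₁) := h2
      exact (h3.pow_right _).eq.symm
    · rw [← QuotientGroup.eq_one_iff, ← QuotientGroup.mk'_apply, map_pow, map_pow]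
      show ((π n₀) ^ 2 ^ a) ^ 2 = 1
      rw [hn₀z]
      exact ha2
    · intro h
      apply ha1
      rw [← hn₀z]
      have : π (n₀ ^ 2 ^ a) = 1 := by
        rw [QuotientGroup.mk'_apply, QuotientGroup.eq_one_iff]
        exact h
      rwa [map_pow] at this
  have hN₂P : N₂ ≤ P := fun n hn => hn.1
  have hN₂u : ∀ p ∈ P, ⁅u, p⁆ ∈ N₂ := by
    by_contra hcon
    push_neg at hcon
    obtain ⟨p, hp, hpN⟩ := hcon
    have hN₂F : N₂ ∈ F := ⟨hN₂n, hN₂P, p, hp, hpN⟩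
    have h1 := hN₁.2 hN₂F hle
    obtain ⟨n, hn, hnN⟩ := hlt
    exact hnN (h1 hn)
  refine ⟨N₁, N₂, hNn, hN₂n, hle, hN₂P, fun n hn p hp => hn.2.1 p hp, fun n hn => hn.2.2, ?_⟩
  by_contra hcon
  push_neg at hcon
  apply hp₀N
  -- all in the quotient
  let π := QuotientGroup.mk' N₁
  set z := ⁅u, p₀⁆ with hz
  have hzN₂ : z ∈ N₂ := hN₂u p₀ hp₀
  have h1 : π u * π p₀ * (π u)⁻¹ = π z * π p₀ := by
    rw [hz, commutatorElement_def, map_mul, map_mul, map_mul, map_inv, map_inv]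
    group
  have h2 : π u * π z * (π u)⁻¹ = π z := by
    have h3 := mk_comm_eq_one (hcon z hzN₂)
    have h4 : π u * π z = π z * π u := h3
    rw [h4]
    group
  have key : ∀ j : ℕ, (π u) ^ j * π p₀ * ((π u) ^ j)⁻¹ = (π z) ^ j * π p₀ := by
    intro j
    induction j with
    | zero => simp
    | succ j ih =>
      have e : (π u) ^ (j + 1) * π p₀ * ((π u) ^ (j + 1))⁻¹ =
          π u * ((π u) ^ j * π p₀ * ((π u) ^ j)⁻¹) * (π u)⁻¹ := by
        rw [pow_succ']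
        group
      rw [e, ih]
      have e2 : π u * ((π z) ^ j * π p₀) * (π u)⁻¹ =
          (π u * (π z) ^ j * (π u)⁻¹) * (π u * π p₀ * (π u)⁻¹) := by group
      rw [e2, h1, ← conj_pow, h2, pow_succ, mul_assoc]
  have h5 := key (orderOf u)
  rw [← map_pow, pow_orderOf_eq_one, map_one, one_mul, inv_one, mul_one] at h5
  have h6 : (π z) ^ orderOf u = 1 := by
    have : 1 * π p₀ = (π z) ^ orderOf u * π p₀ := by rw [one_mul]; exact h5
    exact (mul_right_cancel this).symm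
  have h7 : (π z) ^ 2 = 1 := by
    rw [← map_pow, QuotientGroup.mk'_apply, QuotientGroup.eq_one_iff]
    exact hzN₂.2.2
  obtain ⟨k, hk⟩ := hodd
  rw [hk, pow_succ, pow_mul, h7, one_pow, one_mul] at h6
  rw [QuotientGroup.mk'_apply, QuotientGroup.eq_one_iff] at h6
  exact h6

/-- The module attached to a section. -/
theorem exists_secMod (N₁ N₂ : Subgroup X) [hn₁ : N₁.Normal] [hn₂ : N₂.Normal] (hle : N₁ ≤ N₂)
    (hcomm : ∀ a ∈ N₂, ∀ b ∈ N₂, ⁅a, b⁆ ∈ N₁) (hsq : ∀ n ∈ N₂, n ^ 2 ∈ N₁) :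
    ∃ (M : Type u) (_ : AddCommGroup M) (_ : Module (ZMod 2) M) (_ : Finite M)
      (ρ : X →* Module.End (ZMod 2) M) (φ : X → M),
      (∀ n ∈ N₂, ∀ n' ∈ N₂, φ (n * n') = φ n + φ n') ∧ (∀ n ∈ N₂, φ n = 0 ↔ n ∈ N₁) ∧
      (∀ m, ∃ n ∈ N₂, φ n = m) ∧ (∀ g, ∀ n ∈ N₂, ρ g (φ n) = φ (g * n * g⁻¹)) := by
  classical
  haveI : Fact (Nat.Prime 2) := ⟨Nat.prime_two⟩
  let π := QuotientGroup.mk' N₁
  set V := N₂.map π with hVdef
  haveI hVn : V.Normal := Subgroup.Normal.map hn₂ π (QuotientGroup.mk'_surjective N₁)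
  have hV : Cfsg.IsElementaryAbelian 2 V := by
    refine ⟨⟨⟨?_⟩⟩, ?_⟩
    · rintro ⟨_, a, ha, rfl⟩ ⟨_, b, hb, rfl⟩
      apply Subtype.ext
      exact mk_comm_eq_one (hcomm a ha b hb)
    · rintro _ ⟨a, ha, rfl⟩
      rw [← map_pow, QuotientGroup.mk'_apply, QuotientGroup.eq_one_iff]
      exact hsq a ha
  obtain ⟨M, i1, i2, i3, ρ₀, ι, D⟩ := exists_coordQ (p := 2) hV
  let ρ : X →* Module.End (ZMod 2) M := ρ₀.comp ((piV V).comp π)
  have hex : ∀ n : X, ∃ m : M, n ∈ N₂ → ι m = π n := by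
    intro n
    by_cases hn : n ∈ N₂
    · obtain ⟨m, hm⟩ := D.surj (π n) (mem_map_of_mem π hn)
      exact ⟨m, fun _ => hm⟩
    · exact ⟨0, fun h => absurd h hn⟩
  choose φ hφ using hex
  have hι0 : ι 0 = 1 := by
    have h := D.add 0 0
    rw [add_zero] at h
    exact (mul_eq_left.mp h.symm)
  refine ⟨M, i1, i2, i3, ρ, φ, ?_, ?_, ?_, ?_⟩
  · intro n hn n' hn'
    apply D.inj
    rw [D.add, hφ _ (N₂.mul_mem hn hn'), hφ _ hn, hφ _ hn', map_mul]
  · intro n hn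
    constructor
    · intro h
      have h1 := hφ n hn
      rw [h, hι0] at h1
      have h2 : π n = 1 := h1.symm
      rwa [QuotientGroup.mk'_apply, QuotientGroup.eq_one_iff] at h2
    · intro h
      apply D.inj
      rw [hφ n hn, hι0, QuotientGroup.mk'_apply, QuotientGroup.eq_one_iff]
      exact h
  · intro m
    obtain ⟨n, hn, e⟩ := D.mem m
    refine ⟨n, hn, D.inj ?_⟩
    rw [hφ n hn]
    exact e
  · intro g n hn
    apply D.inj
    have h1 : g * n * g⁻¹ ∈ N₂ := hn₂.conj_mem n hn g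
    rw [hφ _ h1]
    have h2 := D.conj (π g) (φ n)
    rw [hφ n hn] at h2
    rw [map_mul, map_mul, map_inv]
    exact h2

/-- Lower bound used to prove `W ≤ O₂(H)`. -/
theorem lower_A (P : Subgroup X) [hPn : P.Normal] (hP : IsPGroup 2 P) (u x : X) (m : ℕ)
    (hum : u ^ m = 1) (hcop : Nat.Coprime m 6) (hxx : x * x = 1) (hrel : x * u * x⁻¹ * u ∈ P)
    (hmove : ∃ p ∈ P, u * p * u⁻¹ ≠ p) :
    ∃ p₁ ∈ P, ∃ p₂ ∈ P,
      ¬ Commute ⁅p₁, u * x * u⁻¹⁆ x ∧ ¬ Commute ⁅p₂, u * x * u⁻¹⁆ x ∧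
      ¬ Commute (⁅p₁, u * x * u⁻¹⁆ * ⁅p₂, u * x * u⁻¹⁆) x := by
  have hmodd : Odd m := by
    rw [← Nat.not_even_iff_odd]
    intro he
    have h2 : 2 ∣ Nat.gcd m 6 := Nat.dvd_gcd he.two_dvd (by norm_num)
    rw [hcop] at h2
    omega
  have hodd : Odd (orderOf u) := Odd.of_dvd_nat hmodd (orderOf_dvd_of_pow_eq_one hum)
  obtain ⟨N₁, N₂, hN₁, hN₂, hle, hN₂P, hcen, hsq, n₀, hn₀, hun₀⟩ := exists_gsec P hP u hodd hmove
  haveI := hN₁
  haveI := hN₂
  obtain ⟨M, _, _, _, ρ, φ, hadd, hzero, hsurj, hconj⟩ :=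
    exists_secMod N₁ N₂ hle (fun a ha b hb => hcen a ha b (hN₂P hb)) hsq
  have h1 : φ 1 = 0 := (hzero 1 (one_mem _)).mpr (one_mem _)
  have hinvφ : ∀ n ∈ N₂, φ n⁻¹ = φ n := by
    intro n hn
    have h2 := hadd n hn n⁻¹ (inv_mem hn)
    rw [mul_inv_cancel, h1] at h2
    exact (eq_of_add_zero h2.symm).symm
  -- `P` acts trivially
  have hPtriv : ∀ p ∈ P, ∀ v, ρ p v = v := by
    intro p hp v
    obtain ⟨n, hn, rfl⟩ := hsurj v
    rw [hconj p n hn]
    have hc : ⁅p, n⁆ ∈ N₁ := by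
      have h2 := N₁.inv_mem (hcen n hn p hp)
      rwa [commutatorElement_inv] at h2
    have e : p * n * p⁻¹ = ⁅p, n⁆ * n := by
      simp only [commutatorElement_def]
      group
    rw [e, hadd _ (hle hc) _ hn, (hzero _ (hle hc)).mpr hc, zero_add]
  have D : DihS (ρ x) (ρ u) (ρ u⁻¹) ⊤ m :=
    { hm := by rw [← map_pow, hum, map_one]
      huu' := ri ρ u
      hu'u := ri' ρ u
      hxx := fun v => by rw [← rm, hxx, r1]
      cop := hcop
      xS := fun _ _ => trivial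
      uS := fun _ _ => trivial
      u'S := fun _ _ => trivial
      rel := fun v _ => by
        have e : x * u = (x * u * x⁻¹ * u) * (u⁻¹ * x) := by group
        rw [← rm, e, rm, hPtriv _ hrel, rm] }
  have hmoved : ρ u (φ n₀) ≠ φ n₀ := by
    intro e
    apply hun₀
    rw [← hzero _ (by
      rw [commutatorElement_def]
      exact N₂.mul_mem (hN₂.conj_mem _ hn₀ u) (inv_mem hn₀))]
    rw [commutatorElement_def, hadd _ (hN₂.conj_mem _ hn₀ u) _ (inv_mem hn₀), ← hconj u n₀ hn₀, e,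
      hinvφ _ hn₀, aa]
  obtain ⟨w₁, w₂, -, -, h3, h4, h5⟩ := D.rank_two (Submodule.mem_top) hmoved
  obtain ⟨p₁, hp₁, rfl⟩ := hsurj w₁
  obtain ⟨p₂, hp₂, rfl⟩ := hsurj w₂
  set y := u * x * u⁻¹ with hy
  have hρy : ∀ v, (ρ u * ρ x * ρ u⁻¹) v = ρ y v := by
    intro v
    rw [hy, map_mul, map_mul]
  simp only [hρy] at h3 h4 h5
  have hf : ∀ p ∈ N₂, ⁅p, y⁆ ∈ N₂ ∧ φ ⁅p, y⁆ = φ p + ρ y (φ p) := by
    intro p hp
    have h6 : y * p⁻¹ * y⁻¹ ∈ N₂ := hN₂.conj_mem _ (inv_mem hp) y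
    have e : ⁅p, y⁆ = p * (y * p⁻¹ * y⁻¹) := by
      simp only [commutatorElement_def]
      group
    rw [e]
    refine ⟨N₂.mul_mem hp h6, ?_⟩
    rw [hadd _ hp _ h6, ← hconj y _ (inv_mem hp), hinvφ _ hp]
  have hnc : ∀ f ∈ N₂, φ f + ρ x (φ f) ≠ 0 → ¬ Commute f x := by
    intro f hf0 hne hc
    apply hne
    have e : x * f * x⁻¹ = f := by
      have h7 : x * f = f * x := hc.symm.eq
      rw [h7]
      group
    rw [hconj x f hf0, e, aa]
  obtain ⟨hf₁, ef₁⟩ := hf p₁ hp₁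
  obtain ⟨hf₂, ef₂⟩ := hf p₂ hp₂
  refine ⟨p₁, hN₂P hp₁, p₂, hN₂P hp₂, hnc _ hf₁ ?_, hnc _ hf₂ ?_, hnc _ (N₂.mul_mem hf₁ hf₂) ?_⟩
  · rw [ef₁]
    exact h3
  · rw [ef₂]
    exact h4
  · have e₀ : (φ p₁ + ρ y (φ p₁)) + (φ p₂ + ρ y (φ p₂)) =
        φ p₁ + φ p₂ + ρ y (φ p₁ + φ p₂) := by
      rw [map_add]
      abel
    rw [hadd _ hf₁ _ hf₂, ef₁, ef₂, e₀]
    exact h5

end Cfsg.Agent.Lib.SFourW.GSec
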