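import Cfsg.Agent.Lib.SFourW.Loc

/-!
# From a Sylow `2`-subgroup to a strongly embedded subgroup
-/

set_option autoImplicit false
set_option linter.unusedSectionVars false
set_option linter.unusedSimpArgs false
set_option linter.unusedVariables false
set_option linter.style.haveILetI false

namespace Cfsg.Agent.Lib.SFourW.Global

open Subgroup Cfsg
open scoped commutatorElement
open Cfsg.Agent.Lib.SFourW.Idx Cfsg.Agent.Lib.SFourW.ML Cfsg.Agent.Lib.SFourW.GSec
open Cfsg.Agent.Lib.SFourW.Struct Cfsg.Agent.Lib.SFourW.StepA Cfsg.Agent.Lib.SFourW.Bridge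
open Cfsg.Agent.Lib.SFourW.PP Cfsg.Agent.Lib.SFourW.StepT Cfsg.Agent.Lib.SFourW.StepJ
open Cfsg.Agent.Lib.SFourW.Loc
open Cfsg.Agent.Lib.PLocal.Thompson Cfsg.Agent.Lib.PLocal.ThompsonFunctor
open Cfsg.Agent.Lib.Core.Basic Cfsg.Agent.Lib.QuadAct.ZJ Cfsg.Agent.Lib.QuadAct.FFFail
open Cfsg.Agent.Lib.Core.CoprimeMap (mem_normalizer_of_forall_conj_mem)

universe u

/-- The hypotheses on `G`. -/
structure GH (G : Type u) [Group G] : Prop where
  even : Even (Nat.card G)
  core : pCore 2 G = ⊥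
  loc : ∀ M : Subgroup G, IsTwoLocal M → LocX ↥M

variable {G : Type u} [Group G] [Finite G]

/-- The normalizer of the Thompson subgroup. -/
def NJ (T : Subgroup G) : Subgroup G := normalizer (jOf 0 T : Set G)

/-- The subgroup `W`. -/
def WT (T : Subgroup G) : Subgroup G := (omegaV 2 ↥(NJ T)).map (NJ T).subtype

/-- The normalizer of `W`. -/
def MT (T : Subgroup G) : Subgroup G := normalizer (WT T : Set G)

theorem sylow_ne_bot (h : GH G) (T : Sylow 2 G) : (T : Subgroup G) ≠ ⊥ := by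
  haveI := fact2
  exact T.ne_bot_of_dvd_card h.even.two_dvd

theorem isTwoLocal_normalizer {D : Subgroup G} (hp : IsPGroup 2 D) (hne : D ≠ ⊥) :
    IsTwoLocal (normalizer (D : Set G)) := ⟨D, hp, hne, rfl⟩

theorem jOf_ne_bot {R : Subgroup G} (hp : IsPGroup 2 R) (hne : R ≠ ⊥) : jOf 0 R ≠ ⊥ := by
  haveI := fact2
  exact (pFunctor_jOf (p := 2) (e := 0) (Or.inl rfl)).ne_bot R hp hne

theorem normalizer_le_jOf {R : Subgroup G} (hp : IsPGroup 2 R) :
    normalizer (R : Set G) ≤ normalizer (jOf 0 R : Set G) := by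
  haveI := fact2
  exact (pFunctor_jOf (p := 2) (e := 0) (Or.inl rfl)).normalizer_le R hp

theorem NJ_local (h : GH G) (T : Sylow 2 G) : IsTwoLocal (NJ (T : Subgroup G)) :=
  isTwoLocal_normalizer (T.isPGroup'.to_le (jOf_le 0 _)) (jOf_ne_bot T.isPGroup' (sylow_ne_bot h T))

theorem T_le_NJ (T : Sylow 2 G) : (T : Subgroup G) ≤ NJ (T : Subgroup G) :=
  le_normalizer.trans (normalizer_le_jOf T.isPGroup')

theorem WT_le (h : GH G) (T : Sylow 2 G) : WT (T : Subgroup G) ≤ T := by
  have hX := h.loc _ (NJ_local h T)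
  rintro _ ⟨v, hv, rfl⟩
  have h1 := hX.le_sylow (T.subtype (T_le_NJ T)) hv
  rw [Sylow.coe_subtype] at h1
  exact h1

theorem WT_ea (h : GH G) (T : Sylow 2 G) : IsElementaryAbelian 2 (WT (T : Subgroup G)) :=
  IsAbExp.map (h.loc _ (NJ_local h T)).ea _

theorem NJ_le_MT (T : Subgroup G) : NJ T ≤ MT T := by
  haveI := fact2
  haveI hVn : (omegaV 2 ↥(NJ T)).Normal := omegaV_normal
  intro n hn
  have h1 : (⟨n, hn⟩ : NJ T) ∈ normalizer ((omegaV 2 ↥(NJ T) : Subgroup ↥(NJ T)) : Set ↥(NJ T)) := by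
    rw [normalizer_eq_top_iff.mpr hVn]
    trivial
  exact mem_normalizer_map (NJ T).subtype (NJ T).subtype_injective h1

theorem T_le_MT (T : Sylow 2 G) : (T : Subgroup G) ≤ MT (T : Subgroup G) :=
  (T_le_NJ T).trans (NJ_le_MT _)

theorem WT_ne_bot (h : GH G) (T : Sylow 2 G) : WT (T : Subgroup G) ≠ ⊥ := by
  haveI := fact2
  let TN := T.subtype (T_le_NJ T)
  have hne : (TN : Subgroup ↥(NJ (T : Subgroup G))) ≠ ⊥ := by
    intro e
    apply sylow_ne_bot h T
    rw [eq_bot_iff]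
    intro t ht
    have h1 : (⟨t, T_le_NJ T ht⟩ : NJ (T : Subgroup G)) ∈ (TN : Subgroup ↥(NJ (T : Subgroup G))) := by
      rw [Sylow.coe_subtype]
      exact ht
    rw [e] at h1
    have h2 := (mem_bot.mp h1)
    exact mem_bot.mpr (congrArg Subtype.val h2)
  have h1 := Z1_ne_bot TN.isPGroup' hne
  have h2 := LocX.Z1_le_omegaV TN
  intro e
  have h3 := (map_eq_bot_iff_of_injective _ (NJ (T : Subgroup G)).subtype_injective).mp e
  rw [h3] at h2
  exact h1 (le_bot_iff.mp h2)

theorem MT_local (h : GH G) (T : Sylow 2 G) : IsTwoLocal (MT (T : Subgroup G)) :=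
  isTwoLocal_normalizer (T.isPGroup'.to_le (WT_le h T)) (WT_ne_bot h T)

theorem PP_WT (h : GH G) (T : Sylow 2 G) : PP (NJ (T : Subgroup G)) (WT (T : Subgroup G)) := by
  have hX := h.loc _ (NJ_local h T)
  have h1 := PP_map (NJ (T : Subgroup G)).subtype (NJ (T : Subgroup G)).subtype_injective hX.pp'
  rwa [← MonoidHom.range_eq_map, range_subtype] at h1

theorem ctx_of (h : GH G) (T : Sylow 2 G) {L H : Subgroup G} (hL : IsTwoLocal L)
    (hTH : (T : Subgroup G) ≤ H) (hHL : H ≤ L) (hHn : ¬ H ≤ MT (T : Subgroup G))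
    (hmin : ∀ H' ≤ H, (T : Subgroup G) ≤ H' → H' ≠ H → H' ≤ MT (T : Subgroup G)) :
    Ctx (T.subtype hTH) ((WT (T : Subgroup G)).subgroupOf H) := by
  classical
  haveI := fact2
  have hX := h.loc L hL
  set W := WT (T : Subgroup G) with hW
  set T' := T.subtype hTH with hT'
  have hT'c : (T' : Subgroup H) = (T : Subgroup G).subgroupOf H := Sylow.coe_subtype _ _
  have hWH : W ≤ H := (WT_le h T).trans hTH
  have hWmap : (W.subgroupOf H).map H.subtype = W := by
    rw [subgroupOf_map_subtype, inf_eq_left.mpr hWH]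
  have hTmap : (T' : Subgroup H).map H.subtype = T := by
    rw [hT'c, subgroupOf_map_subtype, inf_eq_left.mpr hTH]
  have hmem1 : ∀ y : H, (y : G) ∈ MT (T : Subgroup G) →
      y ∈ normalizer ((W.subgroupOf H : Subgroup H) : Set H) := by
    intro y hy
    refine mem_normalizer_of_forall_conj_mem ?_
    intro v hv
    exact (mem_normalizer_iff.mp hy (v : G)).mp hv
  have hmem2 : ∀ y : H, y ∈ normalizer ((W.subgroupOf H : Subgroup H) : Set H) →
      (y : G) ∈ MT (T : Subgroup G) := by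
    intro y hy
    have h1 := mem_normalizer_map H.subtype H.subtype_injective hy
    rwa [hWmap] at h1
  refine
    { solv := ?_
      s4 := ?_
      cen := ?_
      le := ?_
      norm := ?_
      ea := ?_
      hG := ?_
      hNJ := ?_
      hmin := ?_
      hne := ?_ }
  · haveI := hX.solv
    exact solvable_of_solvable_injective (inclusion_injective hHL)
  · intro h1
    exact hX.s4 (Cfsg.Agent.Lib.PReduced.Sections.involves_of_injective _ (inclusion_injective hHL) h1)
  · -- the centralizer condition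
    have hQT : (pCore 2 ↥L).map L.subtype ≤ T := by
      rintro _ ⟨q, hq, rfl⟩
      have h1 := pCore_le_sylow (T.subtype (hTH.trans hHL)) hq
      rw [Sylow.coe_subtype] at h1
      exact h1
    have hQ'n : (((pCore 2 ↥L).map L.subtype).subgroupOf H).Normal := by
      constructor
      rintro ⟨_, hq⟩ ⟨q, hq1, rfl⟩ y
      refine ⟨⟨y, hHL y.2⟩ * q * ⟨y, hHL y.2⟩⁻¹, ?_, ?_⟩
      · exact (inferInstance : (pCore 2 ↥L).Normal).conj_mem q hq1 _
      · rfl
    have hQ'p : IsPGroup 2 (((pCore 2 ↥L).map L.subtype).subgroupOf H) :=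
      ((T.isPGroup'.to_le hQT)).comap_subtype
    have hQ'le := le_pCore hQ'n hQ'p
    intro c hc
    have h1 : (⟨c, hHL c.2⟩ : L) ∈ centralizer ((pCore 2 ↥L : Subgroup ↥L) : Set ↥L) := by
      refine mem_centralizer_iff.mpr fun q hq => ?_
      have h2 : (q : G) ∈ H := hTH (hQT ⟨q, hq, rfl⟩)
      have h3 : (⟨q, h2⟩ : H) ∈ pCore 2 ↥H := hQ'le ⟨q, hq, rfl⟩
      have h4 := mem_centralizer_iff.mp hc _ h3
      have h4' : (q : G) * (c : G) = (c : G) * (q : G) := congrArg (Subtype.val : H → G) h4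
      exact Subtype.ext h4'
    have h5 := hX.char2 h1
    exact hQ'le ⟨⟨c, hHL c.2⟩, h5, rfl⟩
  · rw [hT'c]
    intro x hx
    exact WT_le h T hx
  · intro t ht
    rw [hT'c] at ht
    exact hmem1 t (T_le_MT T ht)
  · exact IsAbExp.comap_of_injective (e := 2) (WT_ea h T) H.subtype H.subtype_injective
  · refine PP_of_map H.subtype H.subtype_injective ?_
    rw [hTmap, hWmap]
    exact PP_mono (T_le_NJ T) (PP_WT h T)
  · intro n hn
    apply hmem1
    apply NJ_le_MT
    have h1 := mem_normalizer_map H.subtype H.subtype_injective hn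
    have h2 : (jOf 0 (T' : Subgroup H)).map H.subtype = jOf 0 ((T' : Subgroup H).map H.subtype) :=
      jOf_map_of_inf H.subtype _ (by
        rw [(MonoidHom.ker_eq_bot_iff _).mpr H.subtype_injective]
        exact inf_bot_eq _)
    rw [h2, hTmap] at h1
    exact h1
  · intro H' hH'ne hT'H' x hx
    apply hmem1
    have hle : H'.map H.subtype ≤ H := by
      rintro _ ⟨y, _, rfl⟩
      exact y.2
    have hTle : (T : Subgroup G) ≤ H'.map H.subtype := by
      intro t ht
      refine ⟨⟨t, hTH ht⟩, hT'H' ?_, rfl⟩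
      rw [hT'c]
      exact ht
    have hneq : H'.map H.subtype ≠ H := by
      intro e
      apply hH'ne
      rw [eq_top_iff]
      intro y _
      have h1 : (y : G) ∈ H'.map H.subtype := by
        rw [e]
        exact y.2
      obtain ⟨z, hz, hzy⟩ := h1
      have h2 : z = y := Subtype.ext hzy
      rwa [← h2]
    exact hmin _ hle hTle hneq ⟨x, hx, rfl⟩
  · intro e
    apply hHn
    intro y hy
    exact hmem2 ⟨y, hy⟩ (by rw [e]; trivial)

/-- The main theorem on overgroups of a Sylow subgroup. -/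
theorem TM (h : GH G) (T : Sylow 2 G) {L : Subgroup G} (hL : IsTwoLocal L)
    (hTL : (T : Subgroup G) ≤ L) : L ≤ MT (T : Subgroup G) := by
  classical
  by_contra hcon
  let F : Set (Subgroup G) := {H | (T : Subgroup G) ≤ H ∧ H ≤ L ∧ ¬ H ≤ MT (T : Subgroup G)}
  have hF : F.Nonempty := ⟨L, hTL, le_rfl, hcon⟩
  obtain ⟨H, hH⟩ := (Set.toFinite F).exists_minimal hF
  obtain ⟨hTH, hHL, hHn⟩ := hH.1
  have hmin : ∀ H' ≤ H, (T : Subgroup G) ≤ H' → H' ≠ H → H' ≤ MT (T : Subgroup G) := by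
    intro H' h1 h2 h3
    by_contra h4
    have h5 := hH.2 ⟨h2, h1.trans hHL, h4⟩ h1
    exact h3 (le_antisymm h1 h5)
  exact false_of_ctx (ctx_of h T hL hTH hHL hHn hmin)

theorem exists_over {L R₁ : Subgroup G} (hR₁L : R₁ ≤ L) (hp : IsPGroup 2 R₁) :
    ∃ (P : Sylow 2 ↥L) (T : Sylow 2 G), R₁ ≤ (P : Subgroup L).map L.subtype ∧
      (P : Subgroup L).map L.subtype ≤ T := by
  haveI := fact2
  have hp' : IsPGroup 2 (R₁.subgroupOf L) := hp.comap_subtype
  obtain ⟨P, hP⟩ := hp'.exists_le_sylow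
  have hp2 : IsPGroup 2 ((P : Subgroup L).map L.subtype) := P.isPGroup'.map _
  obtain ⟨T, hT⟩ := hp2.exists_le_sylow
  refine ⟨P, T, ?_, hT⟩
  intro r hr
  exact ⟨⟨r, hR₁L hr⟩, hP hr, rfl⟩

theorem lt_inf_normalizer {R T : Subgroup G} (hRT : R ≤ T) (hne : R ≠ T) (hT : IsPGroup 2 T) :
    R < T ⊓ normalizer (R : Set G) := by
  haveI := fact2
  haveI : Group.IsNilpotent T := hT.isNilpotent
  have h1 : R.subgroupOf T < ⊤ := by
    refine lt_top_iff_ne_top.mpr fun e => hne (le_antisymm hRT ?_)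
    intro t ht
    have h2 : (⟨t, ht⟩ : T) ∈ R.subgroupOf T := by
      rw [e]
      trivial
    exact h2
  have h2 := Group.normalizerCondition_of_isNilpotent (G := T) _ h1
  obtain ⟨t, ht, htR⟩ := SetLike.exists_of_lt h2
  refine SetLike.lt_iff_le_and_exists.mpr ⟨le_inf hRT le_normalizer, (t : G), mem_inf.mpr ⟨t.2, ?_⟩, htR⟩
  refine mem_normalizer_of_forall_conj_mem ?_
  intro v hv
  have h3 : (⟨v, hRT hv⟩ : T) ∈ R.subgroupOf T := hv
  exact (mem_normalizer_iff.mp ht _).mp h3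

theorem fact_G (h : GH G) {L Y : Subgroup G} (hL : IsTwoLocal L) (P : Sylow 2 ↥L)
    (h1 : normalizer (Z1 ((P : Subgroup L).map L.subtype) : Set G) ≤ Y)
    (h2 : normalizer (jOf 0 ((P : Subgroup L).map L.subtype) : Set G) ≤ Y) : L ≤ Y := by
  have hX := h.loc L hL
  intro g hg
  obtain ⟨n, hn, c, hc, e⟩ := hX.fact P ⟨g, hg⟩
  have hg' : g = (n : G) * (c : G) := congrArg Subtype.val e
  rw [hg']
  refine mul_mem (h2 ?_) (h1 ?_)
  · have h3 := mem_normalizer_map L.subtype L.subtype_injective hn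
    rwa [jOf_map_of_inf L.subtype _ (by
      rw [(MonoidHom.ker_eq_bot_iff _).mpr L.subtype_injective]
      exact inf_bot_eq _)] at h3
  · apply centralizer_le_normalizer
    refine mem_centralizer_iff.mpr fun z hz => ?_
    obtain ⟨w, hw, rfl⟩ := Z1_map_subtype_le _ hz
    have h4 := mem_centralizer_iff.mp hc w (LocX.Z1_le_omegaV P hw)
    exact congrArg Subtype.val h4

theorem local_sylow_ne_bot {L : Subgroup G} (hL : IsTwoLocal L) (P : Sylow 2 ↥L) :
    (P : Subgroup L).map L.subtype ≠ ⊥ := by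
  haveI := fact2
  obtain ⟨T₀, hp, hne, rfl⟩ := hL
  intro e
  have h1 : T₀.subgroupOf (normalizer (T₀ : Set G)) ≤ P := by
    have hn : (T₀.subgroupOf (normalizer (T₀ : Set G))).Normal := normal_in_normalizer
    exact (le_pCore hn hp.comap_subtype).trans (pCore_le_sylow P)
  apply hne
  rw [eq_bot_iff]
  intro t ht
  have h2 : (⟨t, le_normalizer ht⟩ : normalizer (T₀ : Set G)) ∈ (P : Subgroup _) := h1 ht
  have h3 : t ∈ (P : Subgroup _).map (normalizer (T₀ : Set G)).subtype := ⟨_, h2, rfl⟩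
  rwa [e] at h3

/-- The first inductive statement. -/
def StPsi (G : Type u) [Group G] (n : ℕ) : Prop :=
  ∀ (L : Subgroup G) (P : Sylow 2 ↥L) (T : Sylow 2 G), IsTwoLocal L →
    (P : Subgroup L).map L.subtype ≤ T → n ≤ Nat.card ↥((P : Subgroup L).map L.subtype) →
    L ≤ MT (T : Subgroup G)

/-- The second inductive statement. -/
def StPhi (G : Type u) [Group G] (n : ℕ) : Prop :=
  ∀ (D : Subgroup G) (T T' : Sylow 2 G), D ≠ ⊥ → D ≤ T → D ≤ T' → n ≤ Nat.card D →
    MT (T : Subgroup G) = MT (T' : Subgroup G)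

theorem over_step {n : ℕ} (hPsi : StPsi G (n + 1)) (hPhi : StPhi G (n + 1)) {L' R₁ : Subgroup G}
    (hL' : IsTwoLocal L') (hR₁L' : R₁ ≤ L') {T : Sylow 2 G} (hR₁T : R₁ ≤ T) (hne : R₁ ≠ ⊥)
    (hn : n < Nat.card R₁) : L' ≤ MT (T : Subgroup G) := by
  have hp : IsPGroup 2 R₁ := T.isPGroup'.to_le hR₁T
  obtain ⟨P, T', h1, h2⟩ := exists_over hR₁L' hp
  have h3 := hPsi L' P T' hL' h2 (le_trans hn (card_le_of_le h1))
  have h4 := hPhi R₁ T' T hne (h1.trans h2) hR₁T hn
  rwa [h4] at h3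

theorem card_lt {A B : Subgroup G} (h : A < B) : Nat.card A < Nat.card B := by
  refine lt_of_le_of_ne (card_le_of_le h.le) fun e => ?_
  exact h.ne (eq_of_le_of_card_ge h.le e.ge)

theorem step_psi {n : ℕ} (h : GH G) (hPsi : StPsi G (n + 1)) (hPhi : StPhi G (n + 1)) :
    StPsi G n := by
  intro L P T hL hRT hn
  set R := (P : Subgroup L).map L.subtype with hR
  have hRL : R ≤ L := map_subtype_le _
  have hRp : IsPGroup 2 R := P.isPGroup'.map _
  have hRne := local_sylow_ne_bot hL P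
  by_cases hRe : R = T
  · exact TM h T hL (hRe ▸ hRL)
  · have hlt := lt_inf_normalizer hRT hRe T.isPGroup'
    have hcard : n < Nat.card ↥((T : Subgroup G) ⊓ normalizer (R : Set G)) :=
      lt_of_le_of_lt hn (card_lt hlt)
    have hR₁ne : (T : Subgroup G) ⊓ normalizer (R : Set G) ≠ ⊥ := ne_bot_of_gt hlt
    have hL₁ := isTwoLocal_normalizer (hRp.to_le (Z1_le R)) (Z1_ne_bot hRp hRne)
    have hL₂ := isTwoLocal_normalizer (hRp.to_le (jOf_le 0 R)) (jOf_ne_bot hRp hRne)
    have h₁ := over_step hPsi hPhi hL₁ (inf_le_right.trans (normalizer_le_Z1 R)) inf_le_left hR₁ne hcard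
    have h₂ := over_step hPsi hPhi hL₂ (inf_le_right.trans (normalizer_le_jOf hRp)) inf_le_left hR₁ne hcard
    exact fact_G h hL P h₁ h₂

theorem step_phi {n : ℕ} (h : GH G) (hPsi : StPsi G (n + 1)) (hPhi : StPhi G (n + 1)) :
    StPhi G n := by
  haveI := fact2
  intro D T T' hne hDT hDT' hn
  have hDp : IsPGroup 2 D := T.isPGroup'.to_le hDT
  by_cases hDe : D = T
  · have h1 : (T' : Subgroup G) = T := T.is_maximal' T'.isPGroup' (hDe ▸ hDT')
    have h2 : T' = T := Sylow.ext h1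
    rw [h2]
  by_cases hDe' : D = T'
  · have h1 : (T : Subgroup G) = T' := T'.is_maximal' T.isPGroup' (hDe' ▸ hDT)
    have h2 : T = T' := Sylow.ext h1
    rw [h2]
  have hlt := lt_inf_normalizer hDT hDe T.isPGroup'
  have hlt' := lt_inf_normalizer hDT' hDe' T'.isPGroup'
  have hcard : n < Nat.card ↥((T : Subgroup G) ⊓ normalizer (D : Set G)) :=
    lt_of_le_of_lt hn (card_lt hlt)
  have hcard' : n < Nat.card ↥((T' : Subgroup G) ⊓ normalizer (D : Set G)) :=
    lt_of_le_of_lt hn (card_lt hlt')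
  have hne₁ : (T : Subgroup G) ⊓ normalizer (D : Set G) ≠ ⊥ := ne_bot_of_gt hlt
  have hne₁' : (T' : Subgroup G) ⊓ normalizer (D : Set G) ≠ ⊥ := ne_bot_of_gt hlt'
  have hK := isTwoLocal_normalizer hDp hne
  have hKM := over_step hPsi hPhi hK inf_le_right inf_le_left hne₁ hcard
  -- a second Sylow subgroup
  obtain ⟨P', T₃', h1, h2⟩ := exists_over (L := normalizer (D : Set G))
    (R₁ := (T' : Subgroup G) ⊓ normalizer (D : Set G)) inf_le_right (T'.isPGroup'.to_le inf_le_left)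
  set R' := (P' : Subgroup _).map (normalizer (D : Set G)).subtype with hR'
  have hR'K : R' ≤ normalizer (D : Set G) := map_subtype_le _
  have hR'card : n + 1 ≤ Nat.card R' := le_trans hcard' (card_le_of_le h1)
  have hR'ne : R' ≠ ⊥ := fun e => hne₁' (le_bot_iff.mp (e ▸ h1))
  have hR'p : IsPGroup 2 R' := P'.isPGroup'.map _
  have h3 : MT (T₃' : Subgroup G) = MT (T' : Subgroup G) :=
    hPhi _ T₃' T' hne₁' (h1.trans h2) inf_le_left hcard'
  -- moving into `T`
  obtain ⟨m, hm, hmR⟩ := exists_conj_into T (T_le_MT T) (hR'K.trans hKM) hR'p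
  let T₅ : Sylow 2 G := (m⁻¹ : G) • T
  have hT₅ : (T₅ : Subgroup G) = (T : Subgroup G).map (cj m⁻¹) := by
    show (((m⁻¹ : G) • T : Sylow 2 G) : Subgroup G) = _
    rw [Sylow.coe_subgroup_smul, Subgroup.pointwise_smul_def]
    rfl
  have hT₅le : (T₅ : Subgroup G) ≤ MT (T : Subgroup G) := by
    rw [hT₅]
    rintro _ ⟨t, ht, rfl⟩
    exact mul_mem (mul_mem (inv_mem hm) (T_le_MT T ht)) (inv_mem (inv_mem hm))
  have hR'T₅ : R' ≤ T₅ := by
    rw [hT₅]
    intro r hr
    refine ⟨m * r * m⁻¹, hmR ⟨r, hr, rfl⟩, ?_⟩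
    show m⁻¹ * (m * r * m⁻¹) * m⁻¹⁻¹ = r
    group
  have h4 : MT (T : Subgroup G) ≤ MT (T₅ : Subgroup G) := TM h T₅ (MT_local h T) hT₅le
  have h5 : MT (T₅ : Subgroup G) ≤ MT (T : Subgroup G) :=
    TM h T (MT_local h T₅) ((T_le_MT T).trans h4)
  have h6 : MT (T₅ : Subgroup G) = MT (T₃' : Subgroup G) :=
    hPhi R' T₅ T₃' hR'ne hR'T₅ h2 hR'card
  rw [le_antisymm h4 h5, h6, h3]

theorem all_st (h : GH G) : ∀ k n : ℕ, n + k = Nat.card G + 1 → StPsi G n ∧ StPhi G n
  | 0, n, hn => by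
    constructor
    · intro L P T _ _ h1
      have h2 := card_le_card_group ((P : Subgroup L).map L.subtype)
      omega
    · intro D T T' _ _ _ h1
      have h2 := card_le_card_group D
      omega
  | k + 1, n, hn => by
    obtain ⟨h1, h2⟩ := all_st h k (n + 1) (by omega)
    exact ⟨step_psi h h1 h2, step_phi h h1 h2⟩

theorem local_conj {N : Subgroup G} (hN : IsTwoLocal N) (g : G) : IsTwoLocal (N.map (cj g)) := by
  obtain ⟨D, hp, hne, rfl⟩ := hN
  refine ⟨D.map (cj g), hp.map _, ?_, ?_⟩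
  · intro e
    exact hne ((map_eq_bot_iff_of_injective _ (cj_inj g)).mp e)
  · exact map_equiv_normalizer_eq D (MulAut.conj g)

theorem max_conj {M : Subgroup G} (hM : IsMaximalTwoLocal M) (g : G) :
    IsMaximalTwoLocal (M.map (cj g)) := by
  refine ⟨local_conj hM.1 g, fun N hN hle => ?_⟩
  have h1 : M ≤ N.map (cj g⁻¹) := by
    intro m hm
    refine ⟨g * m * g⁻¹, hle ⟨m, hm, rfl⟩, ?_⟩
    show g⁻¹ * (g * m * g⁻¹) * g⁻¹⁻¹ = m
    group
  have h2 := hM.2 _ (local_conj hN g⁻¹) h1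
  rw [← h2, map_cj_inv]

theorem strongly_embedded (h : GH G) {M : Subgroup G} (hM : IsMaximalTwoLocal M) :
    IsStronglyEmbedded M := by
  classical
  haveI := fact2
  obtain ⟨hPsi, hPhi⟩ := all_st h (Nat.card G + 1) 0 (by omega)
  have heq : ∀ M' : Subgroup G, IsMaximalTwoLocal M' → ∀ (P : Sylow 2 ↥M') (T : Sylow 2 G),
      (P : Subgroup M').map M'.subtype ≤ T → M' = MT (T : Subgroup G) := by
    intro M' hM' P T hle
    exact (hM'.2 _ (MT_local h T) (hPsi M' P T hM'.1 hle (Nat.zero_le _))).symm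
  obtain ⟨T₀, hT₀p, hT₀ne, hT₀e⟩ := hM.1
  have hT₀M : T₀ ≤ M := by
    rw [hT₀e]
    exact le_normalizer
  refine ⟨?_, ?_, ?_⟩
  · intro e
    apply hT₀ne
    have hn : T₀.Normal := normalizer_eq_top_iff.mp (hT₀e.symm.trans e)
    have h1 := le_pCore hn hT₀p
    rw [h.core] at h1
    exact le_bot_iff.mp h1
  · rw [even_iff_two_dvd]
    have h2 : 2 ∣ Nat.card T₀ := by
      obtain ⟨k, hk⟩ := IsPGroup.iff_card.mp hT₀p
      have hk0 : k ≠ 0 := by
        rintro rfl
        rw [pow_zero] at hk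
        exact hT₀ne ((card_eq_one).mp hk)
      rw [hk]
      exact dvd_pow_self 2 hk0
    exact h2.trans (card_dvd_of_le hT₀M)
  · intro g hg
    by_contra hodd
    rw [Nat.not_odd_iff_even, even_iff_two_dvd] at hodd
    obtain ⟨t, ht⟩ := exists_prime_orderOf_dvd_card' _ hodd
    set D := zpowers (t : G) with hD
    have htG : orderOf (t : G) = 2 := by
      rw [← ht]
      exact Subgroup.orderOf_coe t
    have hDp : IsPGroup 2 D := by
      rw [IsPGroup.iff_card]
      exact ⟨1, by rw [hD, Nat.card_zpowers, htG, pow_one]⟩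
    have hDne : D ≠ ⊥ := by
      intro e
      have h1 := zpowers_eq_bot.mp e
      rw [h1, orderOf_one] at htG
      omega
    have hDM : D ≤ M := (zpowers_le).mpr t.2.1
    have hDMg : D ≤ M.map (cj g) := (zpowers_le).mpr t.2.2
    obtain ⟨P₁, T₁, h1, h2⟩ := exists_over hDM hDp
    obtain ⟨P₂, T₂, h3, h4⟩ := exists_over hDMg hDp
    have h5 := heq M hM P₁ T₁ h2
    have h6 := heq _ (max_conj hM g) P₂ T₂ h4
    have h7 := hPhi D T₁ T₂ hDne (h1.trans h2) (h3.trans h4) (Nat.zero_le _)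
    have hMg : M.map (cj g) = M := by
      rw [h6, ← h7, ← h5]
    have hgN : g ∈ normalizer (M : Set G) := mem_normalizer_of_map_cj hMg
    -- the core
    set Q := (pCore 2 ↥M).map M.subtype with hQ
    have hQp : IsPGroup 2 Q := pCore_isPGroup.map _
    have hQM : Q ≤ M := map_subtype_le _
    have hT₀Q : T₀ ≤ Q := by
      have hn : (T₀.subgroupOf M).Normal := by
        constructor
        intro x hx y
        have h8 : (y : G) ∈ normalizer (T₀ : Set G) := by
          rw [← hT₀e]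
          exact y.2
        exact (mem_normalizer_iff.mp h8 (x : G)).mp hx
      have h9 := le_pCore hn hT₀p.comap_subtype
      intro x hx
      exact ⟨⟨x, hT₀M hx⟩, h9 hx, rfl⟩
    have hQne : Q ≠ ⊥ := fun e => hT₀ne (le_bot_iff.mp (e ▸ hT₀Q))
    have hMQ : M ≤ normalizer (Q : Set G) := by
      intro m hm
      have hcn : (pCore 2 ↥M).Normal := inferInstance
      refine mem_normalizer_of_forall_conj_mem ?_
      rintro _ ⟨q, hq, rfl⟩
      exact ⟨⟨m, hm⟩ * q * ⟨m, hm⟩⁻¹, hcn.conj_mem q hq _, rfl⟩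
    have hgQ : g ∈ normalizer (Q : Set G) := by
      have hcn : ((Q.map (cj g)).subgroupOf M).Normal := by
        constructor
        intro x hx y
        -- `x ∈ Q ^ g`
        have hx' : g⁻¹ * (x : G) * g ∈ Q := mem_map_cj.mp hx
        have hy' : g⁻¹ * (y : G) * g ∈ M := by
          have := (mem_normalizer_iff.mp (inv_mem hgN) (y : G)).mp y.2
          rwa [inv_inv] at this
        have h8 := (mem_normalizer_iff.mp (hMQ hy') _).mp hx'
        refine mem_map_cj.mpr ?_
        have e : g⁻¹ * ((y * x * y⁻¹ : M) : G) * g =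
            (g⁻¹ * (y : G) * g) * (g⁻¹ * (x : G) * g) * (g⁻¹ * (y : G) * g)⁻¹ := by
          push_cast
          group
        show g⁻¹ * ((y * x * y⁻¹ : M) : G) * g ∈ Q
        rw [e]
        exact h8
      have hcp : IsPGroup 2 ((Q.map (cj g)).subgroupOf M) := (hQp.map _).comap_subtype
      have h8 := le_pCore hcn hcp
      refine mem_normalizer_of_forall_conj_mem ?_
      intro v hv
      have h9 : g * v * g⁻¹ ∈ M := (mem_normalizer_iff.mp hgN v).mp (hQM hv)
      have h10 : (⟨g * v * g⁻¹, h9⟩ : M) ∈ pCore 2 ↥M := h8 ⟨v, hv, rfl⟩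
      exact ⟨_, h10, rfl⟩
    have h8 := hM.2 _ (isTwoLocal_normalizer hQp hQne) hMQ
    rw [h8] at hgQ
    exact hg hgQ

end Cfsg.Agent.Lib.SFourW.Global
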