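import Cfsg.Agent.Lib.SFourW.StepJ
import Cfsg.Agent.Lib.QuadAct.FFFail

/-!
# Two-local subgroups: the subgroup `V`, the squared inequality and the factorization
-/

set_option autoImplicit false
set_option linter.unusedSectionVars false
set_option linter.unusedSimpArgs false
set_option linter.unusedVariables false
set_option linter.style.haveILetI false

namespace Cfsg.Agent.Lib.SFourW.Loc

open Subgroup Cfsg
open scoped commutatorElement
open Cfsg.Agent.Lib.SFourW.Idx Cfsg.Agent.Lib.SFourW.ML Cfsg.Agent.Lib.SFourW.GSec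
open Cfsg.Agent.Lib.SFourW.Struct Cfsg.Agent.Lib.SFourW.StepA Cfsg.Agent.Lib.SFourW.Bridge
open Cfsg.Agent.Lib.SFourW.PP Cfsg.Agent.Lib.SFourW.StepT Cfsg.Agent.Lib.SFourW.StepJ
open Cfsg.Agent.Lib.PLocal.Thompson Cfsg.Agent.Lib.PLocal.ThompsonFunctor
open Cfsg.Agent.Lib.Core.Basic Cfsg.Agent.Lib.QuadAct.ZJ Cfsg.Agent.Lib.QuadAct.FFFail
open Cfsg.Agent.Lib.Core.CoprimeMap (mem_normalizer_of_forall_conj_mem)

universe u v

/-- The properties of two-local subgroups. -/
structure LocX (X : Type u) [Group X] : Prop where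
  solv : Group.IsSolvable X
  char2 : centralizer (pCore 2 X : Set X) ≤ pCore 2 X
  s4 : ¬ Involves (Equiv.Perm (Fin 4)) X

section X

variable {X : Type u} [Group X] [Finite X]

theorem LocX.sep (hX : LocX X) : IsPSolvable 2 X := by
  haveI := fact2
  haveI := hX.solv
  exact Cfsg.Agent.Lib.Core.PSolvable2.isPSolvable_of_isSolvable

theorem LocX.pp (hX : LocX X) : pPrimeCore 2 X = ⊥ := by
  haveI := fact2
  rw [eq_bot_iff, ← pCore_inf_pPrimeCore (p := 2) (G := X)]
  intro z hz
  refine ⟨hX.char2 ?_, hz⟩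
  refine mem_centralizer_iff.mpr fun q hq => ?_
  exact commute_of_mem_pCore_of_mem_pPrimeCore hq hz

theorem LocX.ea (hX : LocX X) : IsElementaryAbelian 2 (omegaV 2 X) := by
  haveI := fact2
  exact omegaV_ea hX.sep hX.pp

theorem LocX.isP (hX : LocX X) : IsPGroup 2 (omegaV 2 X) := by
  rw [isPGroup_iff_pow_pow_eq_one]
  rintro ⟨v, hv⟩
  exact ⟨1, by apply Subtype.ext; simpa using hX.ea.2 v hv⟩

theorem LocX.le_sylow (hX : LocX X) (P : Sylow 2 X) : omegaV 2 X ≤ P := by
  haveI := fact2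
  haveI hVn : (omegaV 2 X).Normal := omegaV_normal
  exact (le_pCore hVn hX.isP).trans (pCore_le_sylow P)

theorem LocX.pp' (hX : LocX X) : PP (⊤ : Subgroup X) (omegaV 2 X) := by
  haveI := fact2
  haveI hVn : (omegaV 2 X).Normal := omegaV_normal
  intro C _ h1 h2
  exact G_ineq _ hX.ea hX.sep omegaV_pCore hX.s4 C h1 h2

theorem LocX.j_le (hX : LocX X) (P : Sylow 2 X) :
    jOf 0 (P : Subgroup X) ≤ centralizer ((omegaV 2 X : Subgroup X) : Set X) := by
  haveI := fact2
  haveI hVn : (omegaV 2 X).Normal := omegaV_normal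
  refine sSup_le fun A hA => ?_
  refine Cfsg.Agent.Lib.SFourFree.Offender.offender_le_centralizer hX.sep hX.ea omegaV_pCore hX.s4 ?_
    (P.isPGroup'.to_le hA.1) (hoff_of_max hX.ea (hX.le_sylow P) hA)
  rw [commutator_le]
  intro a ha b hb
  have h1 : ⁅a, b⁆ = 1 := by
    rw [commutatorElement_eq_one_iff_mul_comm]
    exact hA.2.1.comm ha hb
  rw [h1]
  exact one_mem _

theorem LocX.fact (hX : LocX X) (P : Sylow 2 X) (g : X) :
    ∃ n ∈ normalizer (jOf 0 (P : Subgroup X) : Set X),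
      ∃ c ∈ centralizer ((omegaV 2 X : Subgroup X) : Set X), g = n * c := by
  haveI := fact2
  haveI hVn : (omegaV 2 X).Normal := omegaV_normal
  set Cent := centralizer ((omegaV 2 X : Subgroup X) : Set X) with hCent
  have hCn : Cent.Normal := by
    constructor
    intro c hc g
    refine mem_centralizer_iff.mpr fun d hd => ?_
    have h1 := mem_centralizer_iff.mp hc (g⁻¹ * d * g) (by
      have := hVn.conj_mem d hd g⁻¹
      rwa [inv_inv] at this)
    calc d * (g * c * g⁻¹) = g * ((g⁻¹ * d * g) * c) * g⁻¹ := by group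
      _ = g * (c * (g⁻¹ * d * g)) * g⁻¹ := by rw [h1]
      _ = _ := by group
  obtain ⟨n, hn, c, hc, rfl⟩ := exists_mul_of_sylow P Cent g
  refine ⟨n, ?_, c, hc, rfl⟩
  have h1 := (pFunctor_jOf (p := 2) (e := 0) (Or.inl rfl)).normalizer_le
    ((P : Subgroup X) ⊓ Cent) (P.isPGroup'.to_le inf_le_left) hn
  have h2 : jOf 0 ((P : Subgroup X) ⊓ Cent) = jOf 0 (P : Subgroup X) :=
    jOf_eq_of_le inf_le_left (le_inf (jOf_le 0 _) (hX.j_le P))
  rwa [h2] at h1

end X

section Z1

variable {G : Type u} [Group G]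

/-- `Ω₁(Z(R))`. -/
def Z1 (R : Subgroup G) : Subgroup G := omegaOne 2 (R ⊓ centralizer (R : Set G))

theorem Z1_le (R : Subgroup G) : Z1 R ≤ R := by
  refine (closure_le _).mpr ?_
  rintro x ⟨hx, -⟩
  exact hx.1

theorem normalizer_le_Z1 [Finite G] (R : Subgroup G) :
    normalizer (R : Set G) ≤ normalizer (Z1 R : Set G) := by
  intro g hg
  refine mem_normalizer_of_forall_conj_mem ?_
  intro v hv
  have h1 : (Z1 R).map (cj g) ≤ Z1 R := by
    unfold Z1 omegaOne
    rw [MonoidHom.map_closure, closure_le]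
    rintro _ ⟨x, ⟨⟨hx1, hx2⟩, hx3⟩, rfl⟩
    refine subset_closure ⟨⟨(mem_normalizer_iff.mp hg x).mp hx1, ?_⟩, ?_⟩
    · refine mem_centralizer_iff.mpr fun s hs => ?_
      have h2 : g⁻¹ * s * g ∈ R := by
        have := (mem_normalizer_iff.mp (inv_mem hg) s).mp hs
        rwa [inv_inv] at this
      have h3 := mem_centralizer_iff.mp hx2 _ h2
      show s * (g * x * g⁻¹) = (g * x * g⁻¹) * s
      calc s * (g * x * g⁻¹) = g * ((g⁻¹ * s * g) * x) * g⁻¹ := by group
        _ = g * (x * (g⁻¹ * s * g)) * g⁻¹ := by rw [h3]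
        _ = _ := by group
    · show (g * x * g⁻¹) ^ 2 = 1
      rw [conj_pow, hx3]
      simp
  exact h1 ⟨v, hv, rfl⟩

theorem Z1_ne_bot [Finite G] {R : Subgroup G} (hp : IsPGroup 2 R) (hne : R ≠ ⊥) : Z1 R ≠ ⊥ := by
  haveI := fact2
  haveI : Nontrivial R := (nontrivial_iff_ne_bot R).mpr hne
  haveI := hp.center_nontrivial
  have h1 : IsPGroup 2 (center R) := hp.to_subgroup _
  obtain ⟨k, hk⟩ := IsPGroup.iff_card.mp h1
  have hk0 : k ≠ 0 := by
    rintro rfl
    have := Finite.one_lt_card (α := center R)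
    omega
  have h2 : 2 ∣ Nat.card (center R) := by
    rw [hk]
    exact dvd_pow_self 2 hk0
  obtain ⟨z, hz⟩ := exists_prime_orderOf_dvd_card' (G := center R) 2 h2
  have hz1 : ((z : R) : G) ^ 2 = 1 := by
    have h3 : z ^ 2 = 1 := by
      rw [← hz]
      exact pow_orderOf_eq_one z
    have h4 := congrArg (fun w : center R => ((w : R) : G)) h3
    simpa using h4
  have hzmem : ((z : R) : G) ∈ Z1 R := by
    refine subset_closure ⟨⟨(z : R).2, ?_⟩, hz1⟩
    refine mem_centralizer_iff.mpr fun s hs => ?_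
    have h5 := (mem_center_iff.mp z.2) ⟨s, hs⟩
    exact congrArg Subtype.val h5
  intro hbot
  rw [hbot] at hzmem
  have h6 : ((z : R) : G) = 1 := by simpa using hzmem
  have h7 : z = 1 := Subtype.ext (Subtype.ext h6)
  rw [h7, orderOf_one] at hz
  omega

theorem Z1_map_subtype_le {L : Subgroup G} (P : Subgroup L) :
    Z1 (P.map L.subtype) ≤ (Z1 P).map L.subtype := by
  refine (closure_le _).mpr ?_
  rintro x ⟨⟨⟨y, hy, rfl⟩, hx2⟩, hx3⟩
  refine ⟨y, subset_closure ⟨⟨hy, ?_⟩, ?_⟩, rfl⟩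
  · refine mem_centralizer_iff.mpr fun s hs => ?_
    have h1 := mem_centralizer_iff.mp hx2 (L.subtype s) ⟨s, hs, rfl⟩
    exact Subtype.ext h1
  · exact Subtype.ext hx3

theorem LocX.Z1_le_omegaV {X : Type u} [Group X] [Finite X] (P : Sylow 2 X) :
    Z1 (P : Subgroup X) ≤ omegaV 2 X :=
  le_iSup (fun S : Sylow 2 X =>
    omegaOne 2 ((S : Subgroup X) ⊓ centralizer ((S : Subgroup X) : Set X))) P

end Z1

section PPmap

variable {X : Type u} [Group X] [Finite X] {Y : Type v} [Group Y] [Finite Y]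

theorem PP_mono {S₁ S₂ E : Subgroup X} (h : S₁ ≤ S₂) (hP : PP S₂ E) : PP S₁ E :=
  fun C hC h1 h2 => hP C (hC.trans h) h1 h2

theorem PP_map (f : X →* Y) (hf : Function.Injective f) {S E : Subgroup X} (h : PP S E) :
    PP (S.map f) (E.map f) := by
  intro C hC h1 h2
  have hCr : C ≤ f.range := hC.trans (map_le_range f S)
  have hC' : (C.comap f).map f = C := by
    rw [map_comap_eq, inf_eq_right.mpr hCr]
  have hC'S : C.comap f ≤ S := by
    rw [← comap_map_eq_self_of_injective hf S]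
    exact comap_mono hC
  have h3 := h (C.comap f) hC'S ?_ ?_
  · rw [← hC', cI_map f hf, cI_map f hf]
    exact h3
  · rw [commutator_le]
    intro a ha b hb
    refine mem_centralizer_iff.mpr fun e he => ?_
    have h4 : ⁅f a, f b⁆ ∈ centralizer ((E.map f : Subgroup Y) : Set Y) :=
      h1 (commutator_mem_commutator ha hb)
    have h5 := mem_centralizer_iff.mp h4 (f e) ⟨e, he, rfl⟩
    apply hf
    rw [map_mul, map_mul, map_commutatorElement]
    exact h5
  · intro c hc
    refine mem_centralizer_iff.mpr fun e he => ?_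
    have h4 := h2 (f c) hc
    have h5 := mem_centralizer_iff.mp h4 (f e) ⟨e, he, rfl⟩
    apply hf
    rw [map_mul, map_mul, map_pow]
    exact h5

theorem PP_of_map (f : X →* Y) (hf : Function.Injective f) {S E : Subgroup X}
    (h : PP (S.map f) (E.map f)) : PP S E := by
  intro C hC h1 h2
  have h3 := h (C.map f) (map_mono hC) ?_ ?_
  · rw [cI_map f hf, cI_map f hf] at h3
    exact h3
  · rw [commutator_le]
    rintro _ ⟨a, ha, rfl⟩ _ ⟨b, hb, rfl⟩
    refine mem_centralizer_iff.mpr ?_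
    rintro _ ⟨e, he, rfl⟩
    rw [← map_commutatorElement, ← map_mul, ← map_mul]
    exact congrArg f (mem_centralizer_iff.mp (h1 (commutator_mem_commutator ha hb)) e he)
  · rintro _ ⟨c, hc, rfl⟩
    refine mem_centralizer_iff.mpr ?_
    rintro _ ⟨e, he, rfl⟩
    rw [← map_pow, ← map_mul, ← map_mul]
    exact congrArg f (mem_centralizer_iff.mp (h2 c hc) e he)

theorem mem_normalizer_map (f : X →* Y) (hf : Function.Injective f) {E : Subgroup X} {g : X}
    (hg : g ∈ normalizer (E : Set X)) : f g ∈ normalizer ((E.map f : Subgroup Y) : Set Y) := by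
  refine mem_normalizer_of_forall_conj_mem ?_
  rintro _ ⟨e, he, rfl⟩
  refine ⟨g * e * g⁻¹, (mem_normalizer_iff.mp hg e).mp he, ?_⟩
  simp only [map_mul, map_inv]

end PPmap

end Cfsg.Agent.Lib.SFourW.Loc
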