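import Cfsg.Agent.Lib.SFourW.Tight
import Cfsg.Agent.Lib.SFourW.Idx
import Cfsg.Agent.Lib.ThreeT.Dih6
import Cfsg.Agent.Lib.SFourFree.ClassTwoC

/-!
# The squared no-offender inequality
-/

set_option autoImplicit false
set_option linter.unusedSectionVars false
set_option linter.unusedSimpArgs false
set_option linter.unusedVariables false
set_option linter.style.haveILetI false

namespace Cfsg.Agent.Lib.SFourW.ML

open Subgroup
open scoped commutatorElement
open Cfsg.Agent.Lib.SFourW.Dih Cfsg.Agent.Lib.SFourW.Sec Cfsg.Agent.Lib.SFourW.Tight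
  Cfsg.Agent.Lib.SFourW.Idx
open Cfsg.Agent.Lib.QuadAct.FFBasic Cfsg.Agent.Lib.QuadAct.FFQuot
open Cfsg.Agent.Lib.Core.Basic Cfsg.Agent.Lib.Core.PSolvable

universe u v

section general

variable {X : Type u} [Group X] [Finite X]

/-- Coprime action of an elementary abelian `2`-group: an inverted element. -/
theorem exists_inverted {B R Y : Subgroup X} (hB : Cfsg.IsElementaryAbelian 2 B)
    (hR : ¬ 2 ∣ Nat.card R) (hBR : B ≤ normalizer (R : Set X)) (hYR : Y ≤ R)
    (hYn : ∀ r ∈ R, ∀ y ∈ Y, r * y * r⁻¹ ∈ Y)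
    (hne : ∃ r ∈ R, ∃ b ∈ B, r⁻¹ * b * r * b⁻¹ ∉ Y) :
    ∃ K ≤ B, K.relIndex B = 2 ∧ ∃ x ∈ B, x ∉ K ∧ ∃ i ∈ R, i ∉ Y ∧ (∀ k ∈ K, k * i = i * k) ∧
      x * i * x⁻¹ = i⁻¹ := by
  haveI : Fact (Nat.Prime 2) := ⟨Nat.prime_two⟩
  have hcomm : ∀ a ∈ B, ∀ b ∈ B, a * b = b * a := by
    intro a ha b hb
    exact Cfsg.Agent.Lib.QuadAct.Basic.comm_of_isMulCommutative hB.1 ha hb
  let S : Subgroup X :=
    { carrier := {r | r ∈ R ∧ ∀ b ∈ B, r⁻¹ * b * r * b⁻¹ ∈ Y}
      mul_mem' := by
        rintro r₁ r₂ ⟨h1, h2⟩ ⟨h3, h4⟩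
        refine ⟨R.mul_mem h1 h3, fun b hb => ?_⟩
        have e : (r₁ * r₂)⁻¹ * b * (r₁ * r₂) * b⁻¹ =
            (r₂⁻¹ * (r₁⁻¹ * b * r₁ * b⁻¹) * r₂) * (r₂⁻¹ * b * r₂ * b⁻¹) := by group
        rw [e]
        refine Y.mul_mem ?_ (h4 b hb)
        have := hYn r₂⁻¹ (R.inv_mem h3) _ (h2 b hb)
        rwa [inv_inv] at this
      one_mem' := ⟨R.one_mem, fun b _ => by
        have e : (1 : X)⁻¹ * b * 1 * b⁻¹ = 1 := by group
        rw [e]
        exact Y.one_mem⟩
      inv_mem' := by
        rintro r ⟨h1, h2⟩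
        refine ⟨R.inv_mem h1, fun b hb => ?_⟩
        have e : r⁻¹⁻¹ * b * r⁻¹ * b⁻¹ = r * (r⁻¹ * b * r * b⁻¹)⁻¹ * r⁻¹ := by group
        rw [e]
        exact hYn r h1 _ (Y.inv_mem (h2 b hb)) }
  have hSmem : ∀ r, r ∈ S ↔ r ∈ R ∧ ∀ b ∈ B, r⁻¹ * b * r * b⁻¹ ∈ Y := fun r => Iff.rfl
  have hgen := Cfsg.Agent.Lib.Coprime.Generation2.eq_iSup_relIndex_le hB hR hBR
  by_cases hall : ∀ K : {K : Subgroup X // K ≤ B ∧ K.relIndex B ≤ 2},
      R ⊓ centralizer (((K : Subgroup X)) : Set X) ≤ S
  · exfalso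
    have hRS : R ≤ S := by
      rw [hgen]
      exact iSup_le hall
    obtain ⟨r, hr, b, hb, h⟩ := hne
    exact h ((hRS hr).2 b hb)
  · push_neg at hall
    obtain ⟨⟨K, hKB, hKi⟩, hK⟩ := hall
    obtain ⟨c, ⟨hcR, hcK⟩, hcS⟩ := SetLike.not_le_iff_exists.mp hK
    have hcS' : ∃ b ∈ B, c⁻¹ * b * c * b⁻¹ ∉ Y := by
      by_contra h
      push_neg at h
      exact hcS ⟨hcR, h⟩
    obtain ⟨b, hb, hbY⟩ := hcS'
    have hbK : b ∉ K := by
      intro hbK
      apply hbY
      have h1 := (mem_centralizer_iff.mp hcK) b hbK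
      have e : c⁻¹ * b * c * b⁻¹ = 1 := by
        calc c⁻¹ * b * c * b⁻¹ = c⁻¹ * (b * c) * b⁻¹ := by group
          _ = c⁻¹ * (c * b) * b⁻¹ := by rw [h1]
          _ = 1 := by group
      rw [e]
      exact Y.one_mem
    have hKn : K.relIndex B = 2 := by
      have h1 : K.relIndex B ≠ 0 := by
        unfold relIndex
        exact index_ne_zero_of_finite
      have h2 : K.relIndex B ≠ 1 := by
        intro h3
        exact hbK (relIndex_eq_one.mp h3 hb)
      omega
    have hb2 : b * b = 1 := by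
      have := hB.2 b hb
      rwa [pow_two] at this
    have hbi : b⁻¹ = b := by
      rw [inv_eq_iff_mul_eq_one]
      exact hb2
    have hcb : b * c * b⁻¹ ∈ R := by
      exact (mem_normalizer_iff.mp (hBR hb) c).mp hcR
    refine ⟨K, hKB, hKn, b, hb, hbK, c⁻¹ * (b * c * b⁻¹), R.mul_mem (R.inv_mem hcR) hcb, ?_, ?_, ?_⟩
    · intro h
      apply hbY
      have e : c⁻¹ * b * c * b⁻¹ = c⁻¹ * (b * c * b⁻¹) := by group
      rw [e]
      exact h
    · intro k hk
      have h1 : k * c = c * k := (mem_centralizer_iff.mp hcK) k hk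
      have h2 : k * b = b * k := hcomm k (hKB hk) b hb
      have h3 : k * c⁻¹ = c⁻¹ * k := by
        have : Commute k c := h1
        exact this.inv_right.eq
      have h4 : k * b⁻¹ = b⁻¹ * k := by
        have : Commute k b := h2
        exact this.inv_right.eq
      calc k * (c⁻¹ * (b * c * b⁻¹)) = (k * c⁻¹) * b * c * b⁻¹ := by group
        _ = c⁻¹ * (k * b) * c * b⁻¹ := by rw [h3]; group
        _ = c⁻¹ * b * (k * c) * b⁻¹ := by rw [h2]; group
        _ = c⁻¹ * b * c * (k * b⁻¹) := by rw [h1]; group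
        _ = c⁻¹ * (b * c * b⁻¹) * k := by rw [h4]; group
    · have h5 : b⁻¹ * b⁻¹ = 1 := by rw [hbi, hb2]
      have e1 : b * (c⁻¹ * (b * c * b⁻¹)) * b⁻¹ = b * c⁻¹ * b * c * (b⁻¹ * b⁻¹) := by group
      have e2 : (c⁻¹ * (b * c * b⁻¹))⁻¹ = b * c⁻¹ * b⁻¹ * c := by group
      rw [e1, e2, h5, mul_one, hbi]

/-- An element of order three inverted by an involution gives a section `S₃`. -/
theorem involves_s3_of_inverted {Y : Type u} [Group Y] {t x : Y} (ht : t ≠ 1) (ht3 : t ^ 3 = 1)
    (hx : x * x = 1) (hinv : x * t * x⁻¹ = t⁻¹) :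
    Cfsg.Involves (Equiv.Perm (Fin 3)) Y := by
  classical
  set L := closure ({x, x * t} : Set Y) with hL
  have hxL : x ∈ L := subset_closure (by simp)
  have hyL : x * t ∈ L := subset_closure (by simp)
  let a : L := ⟨x, hxL⟩
  let b : L := ⟨x * t, hyL⟩
  have hxi : x⁻¹ = x := by
    rw [inv_eq_iff_mul_eq_one]
    exact hx
  have hP : Cfsg.Agent.Lib.ThreeT.Dih6.Pair a b := by
    refine ⟨Subtype.ext hx, Subtype.ext ?_, Subtype.ext ?_⟩
    · show x * t * (x * t) = 1
      rw [hxi] at hinv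
      calc x * t * (x * t) = (x * t * x) * t := by group
        _ = 1 := by rw [hinv]; group
    · show (x * (x * t)) ^ 3 = ((1 : L) : Y)
      rw [← mul_assoc, hx, one_mul, ht3]
      rfl
  have hgen : closure ({a, b} : Set L) = ⊤ := by
    have h1 := closure_closure_coe_preimage (k := ({x, x * t} : Set Y))
    have h2 : ((↑) : L → Y) ⁻¹' ({x, x * t} : Set Y) = {a, b} := by
      ext z
      constructor
      · rintro (h | h)
        · left
          exact Subtype.ext h
        · right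
          exact Subtype.ext h
      · rintro (h | h)
        · left
          exact congrArg Subtype.val h
        · right
          exact congrArg Subtype.val (Set.mem_singleton_iff.mp h)
    rw [h2] at h1
    exact h1
  have hne : a ≠ b := by
    intro h
    have h1 : x = x * t := congrArg Subtype.val h
    apply ht
    have h2 : x * 1 = x * t := by rw [mul_one]; exact h1
    exact (mul_left_cancel h2).symm
  obtain ⟨e⟩ := hP.nonempty_equiv hgen hne
  exact Cfsg.Agent.Lib.PReduced.Sections.involves_of_hom L e.toMonoidHom e.surjective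

end general

section module

variable {Γ : Type u} [Group Γ] {M : Type v} [AddCommGroup M] [Module (ZMod 2) M]
  (ρ : Γ →* Module.End (ZMod 2) M)

/-- A `2`-group fixes a nonzero vector of each nonzero invariant subspace. -/
theorem exists_fixed_sub [Finite M] {K : Subgroup Γ} (hK : IsPGroup 2 K)
    (N : Submodule (ZMod 2) M) (hinv : ∀ k ∈ K, ∀ a ∈ N, ρ k a ∈ N) (hne : N ≠ ⊥) :
    ∃ v ∈ N, v ≠ 0 ∧ ∀ k ∈ K, ρ k v = v := by
  classical
  haveI : Fact (Nat.Prime 2) := ⟨Nat.prime_two⟩
  letI act : MulAction K N :=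
    { smul := fun k n => ⟨ρ (k : Γ) n, hinv k k.2 n n.2⟩
      one_smul := fun n => Subtype.ext (r1 ρ (n : M))
      mul_smul := fun k l n => Subtype.ext (rm ρ (k : Γ) (l : Γ) (n : M)) }
  have hact : ∀ (k : K) (n : N), ((k • n : N) : M) = ρ (k : Γ) n := fun _ _ => rfl
  have h0 : (0 : N) ∈ MulAction.fixedPoints K N := fun k => by
    apply Subtype.ext
    rw [hact]
    exact map_zero _
  have hcard : 2 ∣ Nat.card N := by
    obtain ⟨v, hv, hv0⟩ := (Submodule.ne_bot_iff N).mp hne
    have hq : (⟨v, hv⟩ : N) ≠ 0 := fun e => hv0 (congrArg Subtype.val e)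
    have hord : addOrderOf (⟨v, hv⟩ : N) = 2 :=
      addOrderOf_eq_prime (by rw [two_nsmul]; exact aa _) hq
    have h3 := addOrderOf_dvd_natCard (⟨v, hv⟩ : N)
    rwa [hord] at h3
  obtain ⟨q, hq, hne'⟩ := hK.exists_fixed_point_of_prime_dvd_card_of_fixed_point N hcard h0
  refine ⟨q, q.2, fun e => hne' (Subtype.ext e.symm), fun k hk => ?_⟩
  have h1 : (⟨k, hk⟩ : K) • q = q := hq _
  have h2 := congrArg Subtype.val h1
  rwa [hact] at h2

theorem four_le_card [Finite M] {N : Submodule (ZMod 2) M} {a b : M} (ha : a ≠ 0) (hb : b ≠ 0)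
    (hab : a + b ≠ 0) (hra : a ∈ N) (hrb : b ∈ N) : 4 ≤ Nat.card N := by
  classical
  have ha' : a ≠ b := fun e => hab (by rw [e]; exact aa b)
  have h4 : a ≠ a + b := fun e => hb (by
    have : a + 0 = a + b := by rw [add_zero]; exact e
    exact (add_left_cancel this).symm)
  have h5 : b ≠ a + b := fun e => ha (by
    have : 0 + b = a + b := by rw [zero_add]; exact e
    exact (add_right_cancel this).symm)
  let F : Finset M := {0, a, b, a + b}
  have hF : F.card = 4 := by
    simp only [F]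
    rw [Finset.card_insert_of_notMem, Finset.card_insert_of_notMem, Finset.card_insert_of_notMem,
      Finset.card_singleton]
    · simp only [Finset.mem_singleton]
      exact h5
    · simp only [Finset.mem_insert, Finset.mem_singleton]
      rintro (e | e)
      · exact ha' e
      · exact h4 e
    · simp only [Finset.mem_insert, Finset.mem_singleton]
      rintro (e | e | e)
      · exact ha e.symm
      · exact hb e.symm
      · exact hab e.symm
  have hsub : (F : Set M) ⊆ (N : Set M) := by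
    intro w hw
    simp only [F, Finset.coe_insert, Finset.coe_singleton, Set.mem_insert_iff,
      Set.mem_singleton_iff] at hw
    rcases hw with rfl | rfl | rfl | rfl
    · exact Submodule.zero_mem _
    · exact hra
    · exact hrb
    · exact Submodule.add_mem _ hra hrb
  have h6 := Set.ncard_le_ncard hsub (Set.toFinite _)
  rw [Set.ncard_coe_finset, hF] at h6
  have h7 : Nat.card N = (N : Set M).ncard := Nat.card_coe_set_eq _
  omega

/-- Order of `u` is prime to `6`. -/
theorem coprime_six_of_inverted {Y : Type u} [Group Y] [Finite Y] {i x : Y}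
    (hodd : (orderOf i).Coprime 2)
    (hx : x * x = 1) (hinv : x * i * x⁻¹ = i⁻¹)
    (hS3 : ¬ Cfsg.Involves (Equiv.Perm (Fin 3)) Y) : (orderOf i).Coprime 6 := by
  have h6 : (6 : ℕ) = 2 * 3 := by norm_num
  rw [h6]
  refine Nat.Coprime.mul_right hodd ?_
  rw [Nat.coprime_comm, Nat.Prime.coprime_iff_not_dvd Nat.prime_three]
  rintro ⟨m', hm'⟩
  apply hS3
  have hpos : 0 < orderOf i := orderOf_pos i
  refine involves_s3_of_inverted (t := i ^ m') (x := x) ?_ ?_ hx ?_
  · refine pow_ne_one_of_lt_orderOf ?_ ?_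
    · rintro rfl
      omega
    · omega
  · rw [← pow_mul, mul_comm, ← hm', pow_orderOf_eq_one]
  · rw [← conj_pow, hinv, inv_pow]

/-- The main inequality for elementary abelian subgroups. -/
theorem ml_ineq {Γ : Type u} [Group Γ] [Finite Γ] {M : Type v} [AddCommGroup M]
    [Module (ZMod 2) M] [Finite M] (ρ : Γ →* Module.End (ZMod 2) M) (hρ : Function.Injective ρ)
    (hC : centralizer (Cfsg.pPrimeCore 2 Γ : Set Γ) ≤ Cfsg.pPrimeCore 2 Γ)
    (hS3 : ¬ Cfsg.Involves (Equiv.Perm (Fin 3)) Γ) (B : Subgroup Γ)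
    (hB : Cfsg.IsElementaryAbelian 2 B) :
    (Nat.card B) ^ 2 * Nat.card (fix ρ B) ≤ Nat.card M := by
  haveI : Fact (Nat.Prime 2) := ⟨Nat.prime_two⟩
  induction' hn : Nat.card B using Nat.strong_induction_on with n ih generalizing B
  subst hn
  by_cases hbot : B = ⊥
  · subst hbot
    rw [fix_bot]
    have h1 : Nat.card (⊥ : Subgroup Γ) = 1 := Subgroup.card_bot
    rw [h1, one_pow, one_mul]
    exact le_of_eq (Nat.card_congr Submodule.topEquiv.toEquiv)
  · set R := Cfsg.pPrimeCore 2 Γ with hR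
    have hRc : (Nat.card R).Coprime 2 := pPrimeCore_coprime
    have hR2 : ¬ 2 ∣ Nat.card R := by
      intro h
      have h2 : 2 ∣ Nat.gcd (Nat.card R) 2 := Nat.dvd_gcd h dvd_rfl
      rw [hRc] at h2
      omega
    have hRn : R.Normal := inferInstance
    have hne : ∃ r ∈ R, ∃ b ∈ B, r⁻¹ * b * r * b⁻¹ ∉ (⊥ : Subgroup Γ) := by
      by_contra hcon
      push_neg at hcon
      obtain ⟨⟨b, hb⟩, hb1⟩ := (Subgroup.ne_bot_iff_exists_ne_one).mp hbot
      have hb1' : b ≠ 1 := fun h => hb1 (Subtype.ext h)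
      have hbC : b ∈ centralizer (R : Set Γ) := by
        refine mem_centralizer_iff.mpr fun r hr => ?_
        have h1 := hcon r hr b hb
        rw [mem_bot] at h1
        have e : r⁻¹ * b * r = b := by
          rwa [mul_inv_eq_one] at h1
        calc r * b = r * (r⁻¹ * b * r) := by rw [e]
          _ = b * r := by group
      have hbR := hC hbC
      have h1 := orderOf_coprime_of_mem_pPrimeCore (p := 2) hbR
      have h2 : orderOf b = 2 := orderOf_eq_prime (hB.2 b hb) hb1'
      rw [h2] at h1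
      exact absurd h1 (by norm_num)
    obtain ⟨K, hKB, hKi, x, hxB, hxK, i, hiR, hi1, hKi', hxi⟩ := exists_inverted hB hR2
      (by rw [normalizer_eq_top_iff.mpr hRn]; exact le_top) bot_le
      (fun r _ y hy => by
        rw [mem_bot] at hy
        rw [hy]
        simp) hne
    have hi1' : i ≠ 1 := fun h => hi1 (by rw [h]; exact one_mem _)
    have hxx : x * x = 1 := by
      have := hB.2 x hxB
      rwa [pow_two] at this
    have hcomm : ∀ a ∈ B, ∀ b ∈ B, a * b = b * a := fun a ha b hb =>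
      Cfsg.Agent.Lib.QuadAct.Basic.comm_of_isMulCommutative hB.1 ha hb
    have hcop : (orderOf i).Coprime 6 :=
      coprime_six_of_inverted (orderOf_coprime_of_mem_pPrimeCore hiR) hxx hxi hS3
    set m := orderOf i with hm
    have hKe : Cfsg.IsElementaryAbelian 2 K := Cfsg.Agent.Lib.QuadAct.Replacement.IsElementaryAbelian_of_le hB hKB
    have hcB : Nat.card B = 2 * Nat.card K := by
      have h6 := relIndex_mul_relIndex (⊥ : Subgroup Γ) K B bot_le hKB
      rw [relIndex_bot_left, relIndex_bot_left, hKi] at h6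
      rw [← h6, mul_comm]
    have hKlt : Nat.card K < Nat.card B := by
      have h1 : 0 < Nat.card K := Nat.card_pos
      omega
    have hIH := ih (Nat.card K) hKlt K hKe rfl
    -- the dihedral structure on `C_M(K)`
    have D : DihS (ρ x) (ρ i) (ρ i⁻¹) (fix ρ K) m :=
      { hm := by rw [← map_pow, hm, pow_orderOf_eq_one, map_one]
        huu' := ri ρ i
        hu'u := ri' ρ i
        hxx := fun v => by rw [← rm, hxx, r1]
        cop := hcop
        xS := fun v hv k hk => by
          rw [← rm, hcomm k (hKB hk) x hxB, rm, hv k hk]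
        uS := fun v hv k hk => by
          rw [← rm, hKi' k hk, rm, hv k hk]
        u'S := fun v hv k hk => by
          have h1 : k * i⁻¹ = i⁻¹ * k := by
            have : Commute k i := hKi' k hk
            exact this.inv_right.eq
          rw [← rm, h1, rm, hv k hk]
        rel := fun v hv => by
          have e : x * i = i⁻¹ * x := by
            rw [← hxi]
            group
          rw [← rm, e, rm] }
    -- a moved vector in `C_M(K)`
    have hKp : IsPGroup 2 K := Cfsg.Agent.Lib.Coprime.Generation2.isPGroup_of_isElementaryAbelian hKe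
    have hmv : ∃ b ∈ fix ρ K, ρ i b ≠ b := by
      have h1 : ρ i ≠ 1 := by
        intro h
        apply hi1'
        apply hρ
        rw [h, map_one]
      obtain ⟨w, hw⟩ : ∃ w, ρ i w ≠ w := by
        by_contra hcon
        push_neg at hcon
        exact h1 (LinearMap.ext hcon)
      have hNinv : ∀ k ∈ K, ∀ a ∈ LinearMap.range (tau ρ i), ρ k a ∈ LinearMap.range (tau ρ i) := by
        rintro k hk _ ⟨v, rfl⟩
        refine ⟨ρ k v, ?_⟩
        rw [tau_apply, tau_apply, map_add, ← rm, ← rm, hKi' k hk]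
      have hNne : LinearMap.range (tau ρ i) ≠ ⊥ := by
        intro h
        have h2 : tau ρ i w ∈ LinearMap.range (tau ρ i) := ⟨w, rfl⟩
        rw [h, Submodule.mem_bot, tau_apply] at h2
        exact hw (eq_of_add_zero h2)
      obtain ⟨v, ⟨w', rfl⟩, hv0, hvK⟩ := exists_fixed_sub ρ hKp _ hNinv hNne
      refine ⟨tau ρ i w', hvK, fun e => hv0 ?_⟩
      rw [tau_apply] at e ⊢
      exact D.fixzero w' e
    obtain ⟨b₀, hb₀, hub₀⟩ := hmv
    obtain ⟨v₁, v₂, h1, h2, h3, h4, h5⟩ := D.rank hb₀ hub₀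
    have hv₁ := D.inG_mem h1
    have hv₂ := D.inG_mem h2
    -- counting
    let τ' : (fix ρ K) →ₗ[ZMod 2] M := (tau ρ x) ∘ₗ (fix ρ K).subtype
    have hcard1 : Nat.card (fix ρ K) = Nat.card (LinearMap.ker τ') * Nat.card (LinearMap.range τ') := by
      rw [Submodule.card_eq_card_quotient_mul_card (LinearMap.ker τ')]
      congr 1
      exact Nat.card_congr (LinearMap.quotKerEquivRange τ').toEquiv
    have hcard2 : 4 ≤ Nat.card (LinearMap.range τ') := by
      refine four_le_card (a := τ' ⟨v₁, hv₁⟩) (b := τ' ⟨v₂, hv₂⟩) ?_ ?_ ?_ ⟨_, rfl⟩ ⟨_, rfl⟩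
      · show ρ x v₁ + v₁ ≠ 0
        rwa [add_comm]
      · show ρ x v₂ + v₂ ≠ 0
        rwa [add_comm]
      · show (ρ x v₁ + v₁) + (ρ x v₂ + v₂) ≠ 0
        intro e
        apply h5
        rw [map_add, ← e]
        abel
    have hcard3 : Nat.card (fix ρ B) ≤ Nat.card (LinearMap.ker τ') := by
      let f : fix ρ B → LinearMap.ker τ' := fun v =>
        ⟨⟨v, fix_anti hKB v.2⟩, by
          rw [LinearMap.mem_ker]
          show ρ x (v : M) + (v : M) = 0
          rw [v.2 x hxB, aa]⟩
      refine Nat.card_le_card_of_injective f ?_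
      intro a b hab
      exact Subtype.ext (congrArg (fun z : LinearMap.ker τ' => (((z : fix ρ K)) : M)) hab)
    rw [hcB]
    calc (2 * Nat.card K) ^ 2 * Nat.card (fix ρ B)
        = Nat.card K ^ 2 * (4 * Nat.card (fix ρ B)) := by ring
      _ ≤ Nat.card K ^ 2 * (Nat.card (LinearMap.range τ') * Nat.card (LinearMap.ker τ')) := by
          exact Nat.mul_le_mul_left _ (Nat.mul_le_mul hcard2 hcard3)
      _ = Nat.card K ^ 2 * Nat.card (fix ρ K) := by rw [hcard1, mul_comm (Nat.card (LinearMap.range τ'))]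
      _ ≤ Nat.card M := hIH

end module

section transport

variable {G : Type u} [Group G] [Finite G]

/-- **The squared inequality.** -/
theorem G_ineq (V : Subgroup G) [hVn : V.Normal] (hV : Cfsg.IsElementaryAbelian 2 V)
    (hsep : Cfsg.IsPSolvable 2 G)
    (hO : Cfsg.pCore 2 (G ⧸ centralizer (V : Set G)) = ⊥)
    (hS4 : ¬ Cfsg.Involves (Equiv.Perm (Fin 4)) G) (B : Subgroup G)
    (hB1 : ⁅B, B⁆ ≤ centralizer (V : Set G)) (hB2 : ∀ b ∈ B, b ^ 2 ∈ centralizer (V : Set G)) :
    (cI B V) ^ 2 ≤ cI V B := by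
  haveI : Fact (Nat.Prime 2) := ⟨Nat.prime_two⟩
  have hVp : IsPGroup 2 V := Cfsg.Agent.Lib.Coprime.Generation2.isPGroup_of_isElementaryAbelian hV
  obtain ⟨M, _, _, _, ρ, ι, D⟩ := exists_coordQ (p := 2) hV
  have hsep' : Cfsg.IsPSolvable 2 (G ⧸ centralizer (V : Set G)) :=
    isPSolvable_of_surjective _ piV_surj hsep
  have hC := Cfsg.Agent.Lib.QuadAct.Sections.centralizer_pPrimeCore_le hsep' hO
  have hS3 : ¬ Cfsg.Involves (Equiv.Perm (Fin 3)) (G ⧸ centralizer (V : Set G)) := fun h =>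
    hS4 (Cfsg.Agent.Lib.SFourFree.ClassTwoC.involves_sfour_of_quot V hVp h)
  have hker : ∀ x ∈ centralizer (V : Set G), piV V x = 1 := by
    intro x hx
    rw [← MonoidHom.mem_ker, piV_ker]
    exact hx
  have hBe : Cfsg.IsElementaryAbelian 2 (B.map (piV V)) := by
    refine ⟨⟨⟨?_⟩⟩, ?_⟩
    · rintro ⟨_, a, ha, rfl⟩ ⟨_, b, hb, rfl⟩
      apply Subtype.ext
      show piV V a * piV V b = piV V b * piV V a
      have h1 := hker _ (hB1 (Subgroup.commutator_mem_commutator ha hb))
      rw [commutatorElement_def, map_mul, map_mul, map_mul, map_inv, map_inv] at h1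
      have h2 : piV V a * piV V b * (piV V a)⁻¹ = piV V b := by
        rw [mul_inv_eq_one] at h1
        exact h1
      rw [mul_inv_eq_iff_eq_mul] at h2
      exact h2
    · rintro _ ⟨a, ha, rfl⟩
      rw [← map_pow]
      exact hker _ (hB2 a ha)
  have h1 := ml_ineq ρ D.faith hC hS3 _ hBe
  rw [Cfsg.Agent.Lib.SFourFree.Offender.card_fix_map D] at h1
  have h2 : Nat.card (B.map (piV V)) = cI B V := by
    rw [cI_def]
    exact (relIndex_ker (K := B) (piV V)).symm.trans
      (congrArg (fun H : Subgroup G => H.relIndex B) (piV_ker (V := V)))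
  rw [h2] at h1
  have h3 : Nat.card M = Nat.card V := by
    refine Nat.card_congr (Equiv.ofBijective (fun m => ⟨ι m, D.mem m⟩) ⟨?_, ?_⟩)
    · intro a b hab
      exact D.inj (congrArg Subtype.val hab)
    · rintro ⟨v, hv⟩
      obtain ⟨m, rfl⟩ := D.surj v hv
      exact ⟨m, rfl⟩
  rw [h3, ← card_mul_cI V B, mul_comm] at h1
  exact Nat.le_of_mul_le_mul_left h1 Nat.card_pos

end transport

end Cfsg.Agent.Lib.SFourW.ML
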