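import Cfsg.Agent.Lib.SFourW.Bridge

/-!
# The squared inequality for products of conjugates of `W`
-/

set_option autoImplicit false
set_option linter.unusedSectionVars false
set_option linter.unusedSimpArgs false
set_option linter.unusedVariables false
set_option linter.style.haveILetI false

namespace Cfsg.Agent.Lib.SFourW.PP

open Subgroup Cfsg
open scoped commutatorElement
open Cfsg.Agent.Lib.SFourW.Idx Cfsg.Agent.Lib.SFourW.ML Cfsg.Agent.Lib.SFourW.GSec
open Cfsg.Agent.Lib.SFourW.Struct Cfsg.Agent.Lib.SFourW.StepA Cfsg.Agent.Lib.SFourW.Bridge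
open Cfsg.Agent.Lib.Core.CoprimeMap (mem_normalizer_of_forall_conj_mem)

universe u

variable {H : Type u} [Group H] [Finite H]

/-- The squared inequality for subgroups of `T₀` acting on `E`. -/
def PP (T₀ E : Subgroup H) : Prop :=
  ∀ C ≤ T₀, ⁅C, C⁆ ≤ centralizer (E : Set H) → (∀ c ∈ C, c ^ 2 ∈ centralizer (E : Set H)) →
    (cI C E) ^ 2 ≤ cI E C

theorem PP_bot (T₀ : Subgroup H) : PP T₀ (⊥ : Subgroup H) := by
  intro C _ _ _
  have h1 : cI C (⊥ : Subgroup H) = 1 := by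
    rw [cI_eq_one_iff]
    intro c _
    refine mem_centralizer_iff.mpr fun h hh => ?_
    have hh' : h = 1 := by simpa using hh
    rw [hh']
    group
  rw [h1, one_pow]
  exact cI_pos _ _

theorem PP_sup {T₀ E₁ E₂ : Subgroup H} (h₁ : PP T₀ E₁) (h₂ : PP T₀ E₂) : PP T₀ (E₁ ⊔ E₂) := by
  intro C hC h3 h4
  have hle₁ : centralizer ((E₁ ⊔ E₂ : Subgroup H) : Set H) ≤ centralizer (E₁ : Set H) := by
    rw [centralizer_sup']
    exact inf_le_left
  have hle₂ : centralizer ((E₁ ⊔ E₂ : Subgroup H) : Set H) ≤ centralizer (E₂ : Set H) := by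
    rw [centralizer_sup']
    exact inf_le_right
  set C₁ := C ⊓ centralizer (E₁ : Set H) with hC₁
  have h5 := h₁ C hC (h3.trans hle₁) (fun c hc => hle₁ (h4 c hc))
  have h6 := h₂ C₁ (inf_le_left.trans hC)
    ((commutator_mono inf_le_left inf_le_left).trans (h3.trans hle₂))
    (fun c hc => hle₂ (h4 c hc.1))
  rw [cI_sup_left, mul_pow]
  calc (cI C E₁) ^ 2 * (cI C₁ E₂) ^ 2 ≤ cI E₁ C * cI E₂ C₁ := Nat.mul_le_mul h5 h6
    _ ≤ cI (E₁ ⊔ E₂) C := cI_sup E₁ E₂ C

theorem PP_sSup {T₀ : Subgroup H} {S : Set (Subgroup H)} (hS : ∀ E ∈ S, PP T₀ E) :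
    PP T₀ (sSup S) := by
  have hfin : S.Finite := Set.toFinite S
  induction S, hfin using Set.Finite.induction_on with
  | empty =>
    rw [sSup_empty]
    exact PP_bot T₀
  | insert _ _ ih =>
    rw [sSup_insert]
    exact PP_sup (hS _ (Set.mem_insert _ _)) (ih fun E hE => hS E (Set.mem_insert_of_mem _ hE))

theorem mem_centralizer_conj {g z : H} {E : Subgroup H}
    (hz : z ∈ centralizer ((E.map (cj g) : Subgroup H) : Set H)) :
    g⁻¹ * z * g ∈ centralizer (E : Set H) := by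
  refine mem_centralizer_iff.mpr fun e he => ?_
  have h1 := mem_centralizer_iff.mp hz (g * e * g⁻¹) ⟨e, he, rfl⟩
  calc e * (g⁻¹ * z * g) = g⁻¹ * ((g * e * g⁻¹) * z) * g := by group
    _ = g⁻¹ * (z * (g * e * g⁻¹)) * g := by rw [h1]
    _ = _ := by group

theorem PP_conj {T₀ E : Subgroup H} {g : H} (hg : g⁻¹ ∈ normalizer (T₀ : Set H)) (h : PP T₀ E) :
    PP T₀ (E.map (cj g)) := by
  intro C hC h3 h4
  set C' := C.map (cj g⁻¹) with hC'
  have hC'T : C' ≤ T₀ := by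
    rintro _ ⟨c, hc, rfl⟩
    exact (mem_normalizer_iff.mp hg c).mp (hC hc)
  have h5 := h C' hC'T ?_ ?_
  · have h6 : cI C (E.map (cj g)) = cI C' E := by
      rw [← cI_conj g C' E, hC', map_cj_inv]
    have h7 : cI (E.map (cj g)) C = cI E C' := by
      rw [← cI_conj g E C', hC', map_cj_inv]
    rw [h6, h7]
    exact h5
  · rw [commutator_le]
    rintro _ ⟨a, ha, rfl⟩ _ ⟨b, hb, rfl⟩
    have h8 := mem_centralizer_conj (h3 (commutator_mem_commutator ha hb))
    have e : ⁅cj g⁻¹ a, cj g⁻¹ b⁆ = g⁻¹ * ⁅a, b⁆ * g := by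
      simp only [commutatorElement_def, cj_apply]
      group
    rw [e]
    exact h8
  · rintro _ ⟨c, hc, rfl⟩
    have h8 := mem_centralizer_conj (h4 c hc)
    have e : (cj g⁻¹ c) ^ 2 = g⁻¹ * c ^ 2 * g := by
      simp only [cj_apply, pow_two]
      group
    rw [e]
    exact h8

/-- The conjugate of `W` by `u ^ j`. -/
def Wj (W : Subgroup H) (u : H) (j : ℤ) : Subgroup H := W.map (cj (u ^ j))

/-- The product of the conjugates of `W` by powers of `u`. -/
def Dj (W : Subgroup H) (u : H) : Subgroup H := ⨆ j : ℤ, Wj W u j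

theorem le_Dj (W : Subgroup H) (u : H) (j : ℤ) : Wj W u j ≤ Dj W u :=
  le_iSup (Wj W u) j

theorem Wj_zero (W : Subgroup H) (u : H) : Wj W u 0 = W := by
  rw [Wj, zpow_zero, map_cj_one]

theorem PP_Dj {T₀ W : Subgroup H} {u : H} (hu : u ∈ normalizer (T₀ : Set H)) (h : PP T₀ W) :
    PP T₀ (Dj W u) := by
  rw [Dj, ← sSup_range]
  apply PP_sSup
  rintro _ ⟨j, rfl⟩
  apply PP_conj _ h
  exact inv_mem (zpow_mem hu j)

/-- A criterion for normalizing `Dj`. -/
theorem mem_normalizer_Dj {W : Subgroup H} {u g : H}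
    (h : ∀ j : ℤ, ∃ j' : ℤ, (Wj W u j).map (cj g) ≤ Wj W u j') :
    g ∈ normalizer ((Dj W u : Subgroup H) : Set H) := by
  refine mem_normalizer_of_forall_conj_mem ?_
  intro v hv
  have h1 : (Dj W u).map (cj g) ≤ Dj W u := by
    rw [Dj, Subgroup.map_iSup]
    refine iSup_le fun j => ?_
    obtain ⟨j', hj'⟩ := h j
    exact hj'.trans (le_Dj W u j')
  exact h1 ⟨v, hv, rfl⟩

theorem u_mem_normalizer_Dj (W : Subgroup H) (u : H) :
    u ∈ normalizer ((Dj W u : Subgroup H) : Set H) := by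
  refine mem_normalizer_Dj fun j => ⟨1 + j, ?_⟩
  unfold Wj
  rw [map_cj_map_cj, zpow_one_add]

/-- A quotient computation. -/
theorem zpow_rel {Q : Subgroup H} [hQ : Q.Normal] {x u : H} (hrel : x * u * x⁻¹ * u ∈ Q) (j : ℤ) :
    u ^ j * (x * u ^ j * x⁻¹) ∈ Q := by
  let π := QuotientGroup.mk' Q
  have h1 : π x * π u * (π x)⁻¹ = (π u)⁻¹ := by
    have h2 : π (x * u * x⁻¹ * u) = 1 := by
      rw [QuotientGroup.mk'_apply, QuotientGroup.eq_one_iff]
      exact hrel
    rw [map_mul, map_mul, map_mul, map_inv] at h2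
    exact eq_inv_of_mul_eq_one_left h2
  rw [← QuotientGroup.eq_one_iff, ← QuotientGroup.mk'_apply]
  show π (u ^ j * (x * u ^ j * x⁻¹)) = 1
  rw [map_mul, map_mul, map_mul, map_inv, map_zpow, ← conj_zpow, h1, inv_zpow]
  group

theorem x_mem_normalizer_Dj {W Q : Subgroup H} [hQ : Q.Normal] {x u : H}
    (hrel : x * u * x⁻¹ * u ∈ Q) (hQT : Q ≤ normalizer (W : Set H))
    (hx : x ∈ normalizer (W : Set H)) :
    x ∈ normalizer ((Dj W u : Subgroup H) : Set H) := by
  refine mem_normalizer_Dj fun j => ⟨-j, ?_⟩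
  set q := u ^ j * (x * u ^ j * x⁻¹) with hq
  have hqQ : q ∈ Q := zpow_rel hrel j
  have e : x * u ^ j = u ^ (-j) * (q * x) := by
    rw [hq, zpow_neg]
    group
  have hqx : q * x ∈ normalizer (W : Set H) := mul_mem (hQT hqQ) hx
  unfold Wj
  rw [map_cj_map_cj, e, ← map_cj_map_cj, map_cj_eq_of_mem_normalizer hqx]

theorem k_mem_normalizer_Dj {W T₀ : Subgroup H} {k u : H} (hT : T₀ ≤ normalizer (W : Set H))
    (hu : u ∈ normalizer (T₀ : Set H)) (hk : k ∈ T₀) :
    k ∈ normalizer ((Dj W u : Subgroup H) : Set H) := by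
  refine mem_normalizer_Dj fun j => ⟨j, ?_⟩
  have h1 : u ^ (-j) * k * (u ^ (-j))⁻¹ ∈ T₀ :=
    (mem_normalizer_iff.mp (zpow_mem hu (-j)) k).mp hk
  have e : k * u ^ j = u ^ j * (u ^ (-j) * k * (u ^ (-j))⁻¹) := by
    rw [zpow_neg]
    group
  unfold Wj
  rw [map_cj_map_cj, e, ← map_cj_map_cj, map_cj_eq_of_mem_normalizer (hT h1)]

end Cfsg.Agent.Lib.SFourW.PP
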