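import Cfsg.Agent.Lib.SFourW.Struct

/-!
# `W ≤ O₂(H)`
-/

set_option autoImplicit false
set_option linter.unusedSectionVars false
set_option linter.unusedSimpArgs false
set_option linter.unusedVariables false
set_option linter.style.haveILetI false

namespace Cfsg.Agent.Lib.SFourW.StepA

open Subgroup Cfsg
open scoped commutatorElement
open Cfsg.Agent.Lib.SFourW.Idx Cfsg.Agent.Lib.SFourW.ML Cfsg.Agent.Lib.SFourW.GSec
open Cfsg.Agent.Lib.SFourW.Struct Cfsg.Agent.Lib.SFourW.Struct.Ctx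
open Cfsg.Agent.Lib.PLocal.Thompson Cfsg.Agent.Lib.Core.Basic
open Cfsg.Agent.Lib.QuadAct.ZJ
open Cfsg.Agent.Lib.Core.CoprimeMap (mem_normalizer_of_forall_conj_mem)

universe u

variable {H : Type u} [Group H]

theorem cj_apply (g x : H) : cj g x = g * x * g⁻¹ := rfl

theorem mem_map_cj {g x : H} {S : Subgroup H} : x ∈ S.map (cj g) ↔ g⁻¹ * x * g ∈ S := by
  constructor
  · rintro ⟨s, hs, rfl⟩
    have e : g⁻¹ * (cj g s) * g = s := by
      rw [cj_apply]
      group
    rw [e]
    exact hs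
  · intro h
    refine ⟨_, h, ?_⟩
    rw [cj_apply]
    group

theorem map_cj_map_cj (g h : H) (S : Subgroup H) : (S.map (cj g)).map (cj h) = S.map (cj (h * g)) := by
  ext x
  rw [mem_map_cj, mem_map_cj, mem_map_cj]
  have e : g⁻¹ * (h⁻¹ * x * h) * g = (h * g)⁻¹ * x * (h * g) := by group
  rw [e]

theorem map_cj_one (S : Subgroup H) : S.map (cj (1 : H)) = S := by
  ext x
  rw [mem_map_cj]
  simp

theorem map_cj_inv (g : H) (S : Subgroup H) : (S.map (cj g⁻¹)).map (cj g) = S := by
  rw [map_cj_map_cj, mul_inv_cancel, map_cj_one]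

theorem map_cj_inv' (g : H) (S : Subgroup H) : (S.map (cj g)).map (cj g⁻¹) = S := by
  rw [map_cj_map_cj, inv_mul_cancel, map_cj_one]

theorem map_cj_eq_of_mem_normalizer {g : H} {S : Subgroup H} (hg : g ∈ normalizer (S : Set H)) :
    S.map (cj g) = S := by
  ext x
  rw [mem_map_cj]
  have h1 := (mem_normalizer_iff.mp (inv_mem hg)) x
  rw [inv_inv] at h1
  exact h1.symm

theorem mem_normalizer_of_map_cj {g : H} {S : Subgroup H} (h : S.map (cj g) = S) :
    g ∈ normalizer (S : Set H) := by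
  rw [mem_normalizer_iff]
  intro x
  constructor
  · intro hx
    rw [← h]
    exact ⟨x, hx, rfl⟩
  · intro hx
    rw [← h, mem_map_cj] at hx
    have e : g⁻¹ * (g * x * g⁻¹) * g = x := by group
    rwa [e] at hx

theorem ea_map {A : Subgroup H} (hA : IsElementaryAbelian 2 A) (f : H →* H) :
    IsElementaryAbelian 2 (A.map f) :=
  IsAbExp.map (e := 2) hA f

theorem ea_mono {A B : Subgroup H} (hA : IsElementaryAbelian 2 A) (h : B ≤ A) :
    IsElementaryAbelian 2 B :=
  Cfsg.Agent.Lib.QuadAct.Replacement.IsElementaryAbelian_of_le hA h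

theorem ea_comm {A : Subgroup H} (hA : IsElementaryAbelian 2 A) {a b : H} (ha : a ∈ A)
    (hb : b ∈ A) : a * b = b * a :=
  Cfsg.Agent.Lib.QuadAct.Basic.comm_of_isMulCommutative hA.1 ha hb

theorem ea_sq {A : Subgroup H} (hA : IsElementaryAbelian 2 A) {a : H} (ha : a ∈ A) : a * a = 1 := by
  have := hA.2 a ha
  rwa [pow_two] at this

theorem mul_mem_of_relIndex_le_two [Finite H] {C F : Subgroup H} (h : C.relIndex F ≤ 2) {f₁ f₂ : H}
    (h₁ : f₁ ∈ F) (h₂ : f₂ ∈ F) (n₁ : f₁ ∉ C) (n₂ : f₂ ∉ C) : f₁ * f₂ ∈ C := by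
  have h0 : C.relIndex F ≠ 0 := by
    unfold relIndex
    exact index_ne_zero_of_finite
  have h1 : C.relIndex F ≠ 1 := by
    intro e
    exact n₁ (relIndex_eq_one.mp e h₁)
  have h2 : (C.subgroupOf F).index = 2 := by
    show C.relIndex F = 2
    omega
  have h3 := Subgroup.mul_mem_iff_of_index_two h2 (a := ⟨f₁, h₁⟩) (b := ⟨f₂, h₂⟩)
  have h4 : (⟨f₁, h₁⟩ * ⟨f₂, h₂⟩ : F) ∈ C.subgroupOf F := by
    rw [h3]
    exact iff_of_false n₁ n₂
  exact h4

variable [Finite H] {T : Sylow 2 H} {W : Subgroup H}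

theorem _root_.Cfsg.Agent.Lib.SFourW.Struct.Ctx.hG_ea (C : Ctx T W) (B : Subgroup H) (hBT : B ≤ T) (hB : IsElementaryAbelian 2 B) :
    (cI B W) ^ 2 ≤ cI W B := by
  refine C.hG B hBT ?_ ?_
  · rw [commutator_le]
    intro a ha b hb
    have h1 : ⁅a, b⁆ = 1 := by
      rw [commutatorElement_eq_one_iff_mul_comm]
      exact ea_comm hB ha hb
    rw [h1]
    exact one_mem _
  · intro b hb
    rw [hB.2 b hb]
    exact one_mem _

/-- The key numerical fact. -/
theorem le_two_of_sq {a b : ℕ} (ha : 0 < a) (h1 : a ^ 2 ≤ 2 * b) (h2 : b ^ 2 ≤ 2 * a) : a ≤ 2 := by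
  by_contra hcon
  push_neg at hcon
  have h3 : a ^ 2 * a ^ 2 ≤ 4 * b ^ 2 := by nlinarith
  have h4 : a ^ 2 * a ^ 2 ≤ 8 * a := by nlinarith
  have h5 : 9 ≤ a ^ 2 := by nlinarith
  have h6 : 3 * a ≤ a ^ 2 := by nlinarith
  have h7 : 9 * a ^ 2 ≤ a ^ 2 * a ^ 2 := Nat.mul_le_mul_right _ h5
  linarith

/-- **`W ≤ O₂(H)`**. -/
theorem W_le (C : Ctx T W) {R : Subgroup H} (hR : RData T W R) : W ≤ pCore 2 H := by
  classical
  haveI := fact2
  by_contra hWQ
  set H₀ := normalizer (W : Set H) with hH₀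
  set Q := pCore 2 H with hQ
  have hQn : Q.Normal := inferInstance
  have hQT : Q ≤ T := C.pCore_le_T
  have hTH₀ : (T : Subgroup H) ≤ H₀ := C.norm
  haveI hRn := hR.n
  have hW := C.ea
  have hB1 : ⁅W, W⁆ ≤ Q := by
    rw [commutator_le]
    intro a ha b hb
    have h1 : ⁅a, b⁆ = 1 := by
      rw [commutatorElement_eq_one_iff_mul_comm]
      exact ea_comm hW ha hb
    rw [h1]
    exact one_mem _
  have hB2 : ∀ b ∈ W, b ^ 2 ∈ Q := by
    intro b hb
    rw [hW.2 b hb]
    exact one_mem _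
  by_cases hc : ∃ r ∈ R, ∃ b ∈ W, r⁻¹ * b * r * b⁻¹ ∉ R ⊓ H₀
  · obtain ⟨K, x, u, Tr⟩ := C.exists_triple hR W hB1 hB2 hc
    have huH₀ : u ∉ H₀ := fun h => Tr.uX ⟨Tr.uR, h⟩
    set m := orderOf u with hm
    have hxW := Tr.xB
    set P₁ := K ⊔ Q with hP₁
    have hP₁T : P₁ ≤ T := sup_le (Tr.KB.trans C.le) hQT
    have hP₁p : IsPGroup 2 P₁ := T.isPGroup'.to_le hP₁T
    have huN : u ∈ normalizer (P₁ : Set H) := by
      refine mem_normalizer_of_forall_conj_mem ?_
      intro v hv
      obtain ⟨k, hk, q, hq, rfl⟩ := mem_sup_of_normal_right.mp hv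
      have h1 : ⁅u, k⁆ ∈ Q := by
        have h2 := Q.inv_mem (Tr.ku k hk)
        rwa [commutatorElement_inv] at h2
      have e : u * (k * q) * u⁻¹ = ⁅u, k⁆ * k * (u * q * u⁻¹) := by
        simp only [commutatorElement_def]
        group
      rw [e]
      exact mul_mem (mul_mem (mem_sup_right h1) (mem_sup_left hk))
        (mem_sup_right (hQn.conj_mem q hq u))
    have hxN : x ∈ normalizer (P₁ : Set H) := by
      refine mem_normalizer_of_forall_conj_mem ?_
      intro v hv
      obtain ⟨k, hk, q, hq, rfl⟩ := mem_sup_of_normal_right.mp hv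
      have h1 : x * k = k * x := ea_comm hW hxW (Tr.KB hk)
      have e : x * (k * q) * x⁻¹ = k * (x * q * x⁻¹) := by
        calc x * (k * q) * x⁻¹ = (x * k) * q * x⁻¹ := by group
          _ = (k * x) * q * x⁻¹ := by rw [h1]
          _ = _ := by group
      rw [e]
      exact mul_mem (mem_sup_left hk) (mem_sup_right (hQn.conj_mem q hq x))
    have huN' : u⁻¹ ∈ normalizer (P₁ : Set H) := inv_mem huN
    -- the lower bound
    let L := normalizer (P₁ : Set H)
    have hP'n : (P₁.subgroupOf L).Normal := normal_in_normalizer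
    have hP'p : IsPGroup 2 (P₁.subgroupOf L) := hP₁p.comap_subtype
    have hxx : x * x = 1 := ea_sq hW hxW
    have hQP : Q ≤ P₁ := le_sup_right
    have hPL : P₁ ≤ L := le_normalizer
    obtain ⟨p₁, hp₁, p₂, hp₂, hn₁, hn₂, hn₃⟩ := lower_A (P₁.subgroupOf L) hP'p
      (⟨u, huN⟩ : L) (⟨x, hxN⟩ : L) m
      (by
        apply Subtype.ext
        show u ^ m = 1
        exact pow_orderOf_eq_one u)
      Tr.cop (Subtype.ext hxx)
      (by
        show x * u * x⁻¹ * u ∈ P₁
        exact hQP Tr.rel)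
      (by
        by_contra hcon
        push_neg at hcon
        apply huH₀
        have hcen : u ∈ centralizer (Q : Set H) := by
          refine mem_centralizer_iff.mpr fun q hq => ?_
          have h1 := hcon ⟨q, hPL (hQP hq)⟩ (show q ∈ P₁ from hQP hq)
          have h2 : u * q * u⁻¹ = q := congrArg Subtype.val h1
          calc q * u = (u * q * u⁻¹) * u := by rw [h2]
            _ = u * q := by group
        exact hTH₀ (hQT (C.cen hcen)))
    have hp₁' : (p₁ : H) ∈ P₁ := hp₁
    have hp₂' : (p₂ : H) ∈ P₁ := hp₂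
    set y := u * x * u⁻¹ with hy
    have hn₁' : ¬ Commute ⁅(p₁ : H), y⁆ x := fun h => hn₁ (Subtype.ext h)
    have hn₂' : ¬ Commute ⁅(p₂ : H), y⁆ x := fun h => hn₂ (Subtype.ext h)
    have hn₃' : ¬ Commute (⁅(p₁ : H), y⁆ * ⁅(p₂ : H), y⁆) x := fun h => hn₃ (Subtype.ext h)
    -- the subgroups
    set W' := W.map (cj u) with hW'
    set E := W ⊓ P₁ with hE
    set F := W' ⊓ P₁ with hF
    have hFE : F = E.map (cj u) := by
      ext z
      rw [mem_map_cj]
      constructor
      · rintro ⟨h1, h2⟩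
        refine ⟨mem_map_cj.mp h1, ?_⟩
        have := (mem_normalizer_iff.mp huN' z).mp h2
        rwa [inv_inv] at this
      · rintro ⟨h1, h2⟩
        refine ⟨mem_map_cj.mpr h1, ?_⟩
        have := (mem_normalizer_iff.mp huN _).mp h2
        have e : u * (u⁻¹ * z * u) * u⁻¹ = z := by group
        rwa [e] at this
    have hW'e : IsElementaryAbelian 2 W' := ea_map hW _
    have hFe : IsElementaryAbelian 2 F := ea_mono hW'e inf_le_left
    have hEe : IsElementaryAbelian 2 E := ea_mono hW inf_le_left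
    have hFT : F ≤ T := inf_le_right.trans hP₁T
    have hKE : K ≤ E := le_inf Tr.KB le_sup_left
    have hEW : E ≤ W := inf_le_left
    have hFW' : F ≤ W' := inf_le_left
    have hE2 : E.relIndex W ≤ 2 := by
      have h1 := relIndex_mul_relIndex K E W hKE hEW
      rw [Tr.idx] at h1
      exact Nat.le_of_dvd (by norm_num) ⟨_, (by rw [← h1, mul_comm])⟩
    -- `y` and the commutators
    have hyW' : y ∈ W' := mem_map_cj.mpr (by
      have e : u⁻¹ * y * u = x := by rw [hy]; group
      rw [e]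
      exact hxW)
    have hyN : y ∈ normalizer (P₁ : Set H) := mul_mem (mul_mem huN hxN) huN'
    have hfF : ∀ p ∈ P₁, ⁅p, y⁆ ∈ F := by
      intro p hp
      constructor
      · have hp' : u⁻¹ * p * u ∈ P₁ := by
          have := (mem_normalizer_iff.mp huN' p).mp hp
          rwa [inv_inv] at this
        have h1 : (u⁻¹ * p * u) * x * (u⁻¹ * p * u)⁻¹ ∈ W :=
          (mem_normalizer_iff.mp (C.norm (hP₁T hp')) x).mp hxW
        have h2 : p * y * p⁻¹ ∈ W' := by
          refine mem_map_cj.mpr ?_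
          have e : u⁻¹ * (p * y * p⁻¹) * u = (u⁻¹ * p * u) * x * (u⁻¹ * p * u)⁻¹ := by
            rw [hy]
            group
          rw [e]
          exact h1
        rw [commutatorElement_def]
        exact W'.mul_mem h2 (W'.inv_mem hyW')
      · have h3 : y * p⁻¹ * y⁻¹ ∈ P₁ := (mem_normalizer_iff.mp hyN _).mp (inv_mem hp)
        have e : ⁅p, y⁆ = p * (y * p⁻¹ * y⁻¹) := by
          simp only [commutatorElement_def]
          group
        rw [e]
        exact mul_mem hp h3
    -- the inequalities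
    have h1 : (cI F W) ^ 2 ≤ 2 * cI E W' := by
      have h2 := C.hG_ea F hFT hFe
      have h3 := cI_le_mul hEW F
      have h4 : cI E F ≤ cI E W' := cI_mono_right E hFW'
      calc (cI F W) ^ 2 ≤ cI W F := h2
        _ ≤ E.relIndex W * cI E F := h3
        _ ≤ 2 * cI E W' := Nat.mul_le_mul hE2 h4
    have h2 : (cI E W') ^ 2 ≤ 2 * cI F W := by
      set E'' := E.map (cj u⁻¹) with hE''
      have hE''P : E'' ≤ P₁ := by
        rintro _ ⟨e, he, rfl⟩
        exact (mem_normalizer_iff.mp huN' e).mp he.2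
      have hE''e : IsElementaryAbelian 2 E'' := ea_map hEe _
      have h3 := C.hG_ea E'' (hE''P.trans hP₁T) hE''e
      have h4 : cI E W' = cI E'' W := by
        rw [← cI_conj u E'' W, hE'', map_cj_inv]
      have h5 : cI W' E = cI W E'' := by
        rw [← cI_conj u W E'', hE'', map_cj_inv]
      have h6 : F.relIndex W' = E.relIndex W := by
        rw [hFE, hW', relIndex_map_map_of_injective _ _ (cj_inj u)]
      have h7 := cI_le_mul hFW' E
      have h8 : cI F E ≤ cI F W := cI_mono_right F hEW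
      rw [h4]
      calc (cI E'' W) ^ 2 ≤ cI W E'' := h3
        _ = cI W' E := h5.symm
        _ ≤ F.relIndex W' * cI F E := h7
        _ ≤ 2 * cI F W := Nat.mul_le_mul (by rw [h6]; exact hE2) h8
    have h3 : cI F W ≤ 2 := le_two_of_sq (cI_pos F W) h1 h2
    have h4 : cI F (zpowers x) ≤ 2 := by
      refine (cI_mono_right F ?_).trans h3
      rw [zpowers_le]
      exact hxW
    have hnotC : ∀ z, ¬ Commute z x → z ∉ centralizer ((zpowers x : Subgroup H) : Set H) := by
      intro z hz hz'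
      apply hz
      have := mem_centralizer_iff.mp hz' x (mem_zpowers x)
      exact this.symm
    have h5 := mul_mem_of_relIndex_le_two h4 (hfF _ hp₁') (hfF _ hp₂') (hnotC _ hn₁') (hnotC _ hn₂')
    exact hnotC _ hn₃' h5
  · push_neg at hc
    apply hWQ
    have hconj : ∀ g : H, ∀ w ∈ W, g * w * g⁻¹ ∈ H₀ := by
      intro g w hw
      have hg : g ∈ (T : Subgroup H) ⊔ R := by
        rw [hR.top]
        trivial
      obtain ⟨t, ht, r, hr, rfl⟩ := mem_sup_of_normal_right.mp hg
      have h1 := hc r⁻¹ (inv_mem hr) w hw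
      have h2 : r * w * r⁻¹ ∈ H₀ := by
        have e : r * w * r⁻¹ = (r⁻¹⁻¹ * w * r⁻¹ * w⁻¹) * w := by group
        rw [e]
        exact mul_mem h1.2 (hTH₀ (C.le hw))
      have e : t * r * w * (t * r)⁻¹ = t * (r * w * r⁻¹) * t⁻¹ := by group
      rw [e]
      exact mul_mem (mul_mem (hTH₀ ht) h2) (inv_mem (hTH₀ ht))
    have hEle : normalClosure (W : Set H) ≤ H₀ := by
      refine (closure_le _).mpr ?_
      intro z hz
      obtain ⟨w, hw, hwz⟩ := Group.mem_conjugatesOfSet_iff.mp hz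
      obtain ⟨c, rfl⟩ := isConj_iff.mp hwz
      exact hconj c w hw
    have h1 := C.inf_le_pCore (normalClosure (W : Set H)) hEle
    intro w hw
    exact h1 ⟨C.le hw, subset_normalClosure hw⟩

end Cfsg.Agent.Lib.SFourW.StepA
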