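import Cfsg.Agent.Lib.SFourW.StepT
import Cfsg.Agent.Lib.SFourFree.Offender
import Cfsg.Agent.Lib.PLocal.ThompsonFunctor

/-!
# No minimal counterexample
-/

set_option autoImplicit false
set_option linter.unusedSectionVars false
set_option linter.unusedSimpArgs false
set_option linter.unusedVariables false
set_option linter.style.haveILetI false

namespace Cfsg.Agent.Lib.SFourW.StepJ

open Subgroup Cfsg
open scoped commutatorElement
open Cfsg.Agent.Lib.SFourW.Idx Cfsg.Agent.Lib.SFourW.ML Cfsg.Agent.Lib.SFourW.GSec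
open Cfsg.Agent.Lib.SFourW.Struct Cfsg.Agent.Lib.SFourW.StepA Cfsg.Agent.Lib.SFourW.Bridge
open Cfsg.Agent.Lib.SFourW.PP Cfsg.Agent.Lib.SFourW.StepT
open Cfsg.Agent.Lib.SFourW.Struct.Ctx
open Cfsg.Agent.Lib.PLocal.Thompson Cfsg.Agent.Lib.PLocal.ThompsonFunctor
open Cfsg.Agent.Lib.Core.Basic Cfsg.Agent.Lib.QuadAct.ZJ

universe u

variable {H : Type u} [Group H] [Finite H]

theorem eq_one_of_sq {a b : ℕ} (ha : 0 < a) (h1 : a ^ 2 ≤ b) (h2 : b ^ 2 ≤ a) : a = 1 := by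
  have h3 : a ≤ a ^ 2 := by nlinarith
  have hb : 0 < b := by omega
  have h4 : b ≤ b ^ 2 := by nlinarith
  have h5 : a ^ 2 = a := by omega
  have h6 : a * a = a * 1 := by rw [← pow_two, h5, mul_one]
  exact Nat.eq_of_mul_eq_mul_left ha h6

variable {T : Sylow 2 H} {W : Subgroup H}

theorem false_of_ctx (C : Ctx T W) : False := by
  classical
  haveI := fact2
  obtain ⟨R, hR⟩ := C.exists_R
  have hWQ := W_le C hR
  set H₀ := normalizer (W : Set H) with hH₀
  set Q := pCore 2 H with hQ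
  have hQn : Q.Normal := inferInstance
  have hQT : Q ≤ T := C.pCore_le_T
  have hTH₀ : (T : Subgroup H) ≤ H₀ := C.norm
  haveI hRn := hR.n
  have hW := C.ea
  have hconjT : ∀ g : H, W.map (cj g) ≤ T := by
    rintro g _ ⟨w, hw, rfl⟩
    exact hQT (hQn.conj_mem w (hWQ hw) g)
  have hcomm₀ : ∀ g : H, W.map (cj g) ≤ centralizer (W : Set H) := by
    intro g
    have h1 := C.hG_ea _ (hconjT g) (ea_map hW _)
    have h2 := C.hG_ea _ (hconjT g⁻¹) (ea_map hW _)
    have h3 : cI (W.map (cj g⁻¹)) W = cI W (W.map (cj g)) := by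
      rw [← cI_conj g (W.map (cj g⁻¹)) W, map_cj_inv]
    have h4 : cI W (W.map (cj g⁻¹)) = cI (W.map (cj g)) W := by
      rw [← cI_conj g W (W.map (cj g⁻¹)), map_cj_inv]
    rw [h3, h4] at h2
    exact cI_eq_one_iff.mp (eq_one_of_sq (cI_pos _ _) h1 h2)
  -- the normal closure
  set D := normalClosure (W : Set H) with hD
  have hDn : D.Normal := inferInstance
  have hWD : W ≤ D := subset_normalClosure
  have hDe : IsElementaryAbelian 2 D := by
    refine Cfsg.Agent.Lib.QuadAct.OmegaZ.isElementaryAbelian_closure ?_ ?_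
    · intro x hx y hy
      obtain ⟨w, hw, hwx⟩ := Group.mem_conjugatesOfSet_iff.mp hx
      obtain ⟨g, rfl⟩ := isConj_iff.mp hwx
      obtain ⟨w', hw', hwy⟩ := Group.mem_conjugatesOfSet_iff.mp hy
      obtain ⟨h, rfl⟩ := isConj_iff.mp hwy
      have h1 := mem_centralizer_iff.mp (hcomm₀ (h⁻¹ * g) ⟨w, hw, rfl⟩) w' hw'
      have h2 : (h⁻¹ * g) * w * (h⁻¹ * g)⁻¹ = h⁻¹ * (g * w * g⁻¹) * h := by group
      rw [show (cj (h⁻¹ * g)) w = (h⁻¹ * g) * w * (h⁻¹ * g)⁻¹ from rfl, h2] at h1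
      have h3 : h * (w' * (h⁻¹ * (g * w * g⁻¹) * h)) * h⁻¹ = h * ((h⁻¹ * (g * w * g⁻¹) * h) * w') * h⁻¹ := by
        rw [h1]
      calc g * w * g⁻¹ * (h * w' * h⁻¹) = h * ((h⁻¹ * (g * w * g⁻¹) * h) * w') * h⁻¹ := by group
        _ = h * (w' * (h⁻¹ * (g * w * g⁻¹) * h)) * h⁻¹ := h3.symm
        _ = _ := by group
    · intro x hx
      obtain ⟨w, hw, hwx⟩ := Group.mem_conjugatesOfSet_iff.mp hx
      obtain ⟨g, rfl⟩ := isConj_iff.mp hwx
      have h1 : w ^ 2 = 1 := hW.2 w hw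
      rw [show (g * w * g⁻¹) ^ 2 = g * w ^ 2 * g⁻¹ by
        rw [pow_two, pow_two]
        group, h1]
      group
  have hDQ : D ≤ Q := normalClosure_le_normal hWQ
  have hDT : D ≤ T := hDQ.trans hQT
  set Cent := centralizer (D : Set H) with hCent
  have hCn : Cent.Normal := by
    constructor
    intro c hc g
    refine mem_centralizer_iff.mpr fun d hd => ?_
    have h1 := mem_centralizer_iff.mp hc (g⁻¹ * d * g) (by
      have := hDn.conj_mem d hd g⁻¹
      rwa [inv_inv] at this)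
    calc d * (g * c * g⁻¹) = g * ((g⁻¹ * d * g) * c) * g⁻¹ := by group
      _ = g * (c * (g⁻¹ * d * g)) * g⁻¹ := by rw [h1]
      _ = _ := by group
  have hCH₀ : Cent ≤ H₀ := (centralizer_le hWD).trans (centralizer_le_normalizer _)
  have hCW : Cent ≤ centralizer (W : Set H) := centralizer_le hWD
  have hTCQ : (T : Subgroup H) ⊓ Cent ≤ Q := C.inf_le_pCore Cent hCH₀
  have hJ : ¬ jOf 0 (T : Subgroup H) ≤ Cent := by
    intro hJC
    apply C.hne
    rw [eq_top_iff]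
    intro g _
    obtain ⟨n, hn, c, hc, rfl⟩ := exists_mul_of_sylow T Cent g
    have h1 := (pFunctor_jOf (p := 2) (e := 0) (Or.inl rfl)).normalizer_le
      ((T : Subgroup H) ⊓ Cent) (T.isPGroup'.to_le inf_le_left) hn
    have h2 : jOf 0 ((T : Subgroup H) ⊓ Cent) = jOf 0 (T : Subgroup H) :=
      jOf_eq_of_le inf_le_left (le_inf (jOf_le 0 _) hJC)
    rw [h2] at h1
    exact mul_mem (C.hNJ h1) (hCH₀ hc)
  obtain ⟨A, hA, hAC⟩ : ∃ A, IsMaxIn 0 (T : Subgroup H) A ∧ ¬ A ≤ Cent := by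
    by_contra hcon
    push_neg at hcon
    exact hJ (sSup_le fun A hA => hcon A hA)
  have hAT := hA.1
  have hAN : A ≤ normalizer (D : Set H) := by
    rw [normalizer_eq_top_iff.mpr hDn]
    exact le_top
  have hAab : ⁅A, A⁆ ≤ Cent := by
    rw [commutator_le]
    intro a ha b hb
    have h1 : ⁅a, b⁆ = 1 := by
      rw [commutatorElement_eq_one_iff_mul_comm]
      exact hA.2.1.comm ha hb
    rw [h1]
    exact one_mem _
  have hoff := hoff_of_max hDe hDT hA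
  obtain ⟨B, hBA, hBb, hBnC⟩ := Cfsg.Agent.Lib.SFourFree.Offender.exists_best_of_offender hDe hAN
    hAab (T.isPGroup'.to_le hAT) hAC hoff
  have hBT : B ≤ T := hBA.trans hAT
  have hBab : ∀ a ∈ B, ∀ b ∈ B, a * b = b * a := fun a ha b hb => hA.2.1.comm (hBA ha) (hBA hb)
  have hBsq : ∀ b ∈ B, b ^ 2 ∈ Cent := hBb.2.2
  have hbest : ∀ E ≤ D, cI E B ≤ cI B E := fun E hE => cI_best hBb.1 hE
  have hsub : ∀ g : H, B.map (cj g) ≤ H₀ → cI B (W.map (cj g⁻¹)) = 1 := by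
    intro g hg
    have hBgp : IsPGroup 2 (B.map (cj g)) := (T.isPGroup'.to_le hBT).map _
    obtain ⟨m, hm, hmT⟩ := exists_conj_into T hTH₀ hg hBgp
    rw [map_cj_map_cj] at hmT
    set B' := B.map (cj (m * g)) with hB'
    have hcomm' : ⁅B', B'⁆ ≤ centralizer (W : Set H) := by
      rw [commutator_le]
      rintro _ ⟨a, ha, rfl⟩ _ ⟨b, hb, rfl⟩
      have h1 : ⁅cj (m * g) a, cj (m * g) b⁆ = 1 := by
        rw [commutatorElement_eq_one_iff_mul_comm, ← map_mul, ← map_mul, hBab a ha b hb]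
      rw [h1]
      exact one_mem _
    have hsq' : ∀ b ∈ B', b ^ 2 ∈ centralizer (W : Set H) := by
      rintro _ ⟨b, hb, rfl⟩
      rw [← map_pow]
      exact hCW (hCn.conj_mem _ (hBsq b hb) (m * g))
    have h1 := C.hG B' hmT hcomm' hsq'
    have hWm : W.map (cj m⁻¹) = W := map_cj_eq_of_mem_normalizer (inv_mem hm)
    have hE : W.map (cj (m * g)⁻¹) = W.map (cj g⁻¹) := by
      rw [mul_inv_rev, ← map_cj_map_cj, hWm]
    have hBB : B'.map (cj (m * g)⁻¹) = B := map_cj_inv' _ _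
    have h2 : cI B' W = cI B (W.map (cj g⁻¹)) := by
      rw [← cI_conj (m * g)⁻¹ B' W, hE, hBB]
    have h3 : cI W B' = cI (W.map (cj g⁻¹)) B := by
      rw [← cI_conj (m * g)⁻¹ W B', hE, hBB]
    rw [h2, h3] at h1
    have hED : W.map (cj g⁻¹) ≤ D := by
      rintro _ ⟨w, hw, rfl⟩
      exact hDn.conj_mem w (hWD hw) g⁻¹
    have h4 := hbest _ hED
    have h5 := h1.trans h4
    have h6 : 0 < cI B (W.map (cj g⁻¹)) := cI_pos _ _
    have h7 : cI B (W.map (cj g⁻¹)) * cI B (W.map (cj g⁻¹)) = cI B (W.map (cj g⁻¹)) * 1 := by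
      rw [mul_one]
      apply le_antisymm
      · rwa [← pow_two]
      · exact Nat.le_mul_of_pos_left _ h6
    exact Nat.eq_of_mul_eq_mul_left h6 h7
  have hne : ∃ r ∈ R, ¬ B.map (cj r) ≤ H₀ := by
    by_contra hcon
    push_neg at hcon
    apply hBnC
    have h1 : ∀ g : H, B.map (cj g) ≤ H₀ := by
      intro g
      have hg : g ∈ (T : Subgroup H) ⊔ R := by
        rw [hR.top]
        trivial
      obtain ⟨t, ht, r, hr, rfl⟩ := mem_sup_of_normal_right.mp hg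
      rw [← map_cj_map_cj]
      rintro _ ⟨_, ⟨b, hb, rfl⟩, rfl⟩
      exact H₀.mul_mem (H₀.mul_mem (hTH₀ ht) (hcon r hr ⟨b, hb, rfl⟩)) (H₀.inv_mem (hTH₀ ht))
    intro b hb
    have h3 : D ≤ centralizer (({b} : Set H)) := by
      refine (closure_le _).mpr ?_
      intro x hx
      obtain ⟨w, hw, hwx⟩ := Group.mem_conjugatesOfSet_iff.mp hx
      obtain ⟨g, rfl⟩ := isConj_iff.mp hwx
      have h4 := hsub g⁻¹ (h1 _)
      rw [inv_inv] at h4
      have h5 := cI_eq_one_iff.mp h4 hb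
      have h6 := mem_centralizer_iff.mp h5 (cj g w) ⟨w, hw, rfl⟩
      refine mem_centralizer_iff.mpr ?_
      rintro _ rfl
      exact h6.symm
    refine mem_centralizer_iff.mpr fun d hd => ?_
    exact (mem_centralizer_iff.mp (h3 hd) _ rfl).symm
  have hB1 : ⁅B, B⁆ ≤ Q := by
    rw [commutator_le]
    intro a ha b hb
    have h1 : ⁅a, b⁆ = 1 := by
      rw [commutatorElement_eq_one_iff_mul_comm]
      exact hBab a ha b hb
    rw [h1]
    exact one_mem _
  have hB2 : ∀ b ∈ B, b ^ 2 ∈ Q := fun b hb =>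
    hTCQ ⟨pow_mem (hBT hb) 2, hBsq b hb⟩
  have hne' : ∃ r ∈ R, ∃ b ∈ B, r⁻¹ * b * r * b⁻¹ ∉ R ⊓ H₀ := by
    obtain ⟨r, hr, hrn⟩ := hne
    obtain ⟨_, ⟨b, hb, rfl⟩, hz⟩ := Set.not_subset.mp hrn
    refine ⟨r⁻¹, inv_mem hr, b, hb, ?_⟩
    rintro ⟨-, h2⟩
    apply hz
    have e : cj r b = r⁻¹⁻¹ * b * r⁻¹ * b⁻¹ * b := by
      show r * b * r⁻¹ = _
      group
    rw [e]
    exact H₀.mul_mem h2 (hTH₀ (hBT hb))
  obtain ⟨K, x, u, Tr⟩ := C.exists_triple hR B hB1 hB2 hne'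
  exact false_of_triple C hR hWD hDe hDn hDT hBT hBab hBsq hbest Tr

end Cfsg.Agent.Lib.SFourW.StepJ
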