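import Cfsg.Agent.Lib.SFourW.PP

/-!
# The contradiction coming from a triple
-/

set_option autoImplicit false
set_option linter.unusedSectionVars false
set_option linter.unusedSimpArgs false
set_option linter.unusedVariables false
set_option linter.style.haveILetI false

namespace Cfsg.Agent.Lib.SFourW.StepT

open Subgroup Cfsg
open scoped commutatorElement
open Cfsg.Agent.Lib.SFourW.Idx Cfsg.Agent.Lib.SFourW.ML Cfsg.Agent.Lib.SFourW.GSec
open Cfsg.Agent.Lib.SFourW.Struct Cfsg.Agent.Lib.SFourW.StepA Cfsg.Agent.Lib.SFourW.Bridge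
open Cfsg.Agent.Lib.SFourW.PP Cfsg.Agent.Lib.SFourW.Sec Cfsg.Agent.Lib.SFourW.Tight
open Cfsg.Agent.Lib.SFourW.Struct.Ctx
open Cfsg.Agent.Lib.Core.CoprimeMap (mem_normalizer_of_forall_conj_mem)

universe u

variable {H : Type u} [Group H] [Finite H]

theorem cI_le_of_inf_le {V B₁ B₂ : Subgroup H}
    (h : V ⊓ centralizer (B₂ : Set H) ≤ V ⊓ centralizer (B₁ : Set H)) : cI V B₁ ≤ cI V B₂ := by
  have h1 := card_mul_cI V B₁
  have h2 := card_mul_cI V B₂
  have h3 := Subgroup.card_le_of_le h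
  have h4 : 0 < Nat.card ↥(V ⊓ centralizer (B₂ : Set H)) := Nat.card_pos
  by_contra hcon
  push_neg at hcon
  have h5 : Nat.card ↥(V ⊓ centralizer (B₂ : Set H)) * cI V B₂ <
      Nat.card ↥(V ⊓ centralizer (B₂ : Set H)) * cI V B₁ :=
    Nat.mul_lt_mul_of_pos_left hcon h4
  have h6 : Nat.card ↥(V ⊓ centralizer (B₂ : Set H)) * cI V B₁ ≤
      Nat.card ↥(V ⊓ centralizer (B₁ : Set H)) * cI V B₁ :=
    Nat.mul_le_mul_right _ h3
  omega

theorem le_centralizer_of_cI_le {V Z B : Subgroup H} (hZ : Z ≤ B) (h : cI V B ≤ cI V Z) :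
    V ⊓ centralizer (Z : Set H) ≤ centralizer (B : Set H) := by
  have h1 := card_mul_cI V B
  have h2 := card_mul_cI V Z
  have hle : V ⊓ centralizer (B : Set H) ≤ V ⊓ centralizer (Z : Set H) :=
    inf_le_inf_left _ (centralizer_le hZ)
  have h3 : Nat.card ↥(V ⊓ centralizer (Z : Set H)) ≤ Nat.card ↥(V ⊓ centralizer (B : Set H)) := by
    by_contra hcon
    push_neg at hcon
    have h4 : 0 < cI V B := cI_pos _ _
    have h5 : Nat.card ↥(V ⊓ centralizer (B : Set H)) * cI V B <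
        Nat.card ↥(V ⊓ centralizer (Z : Set H)) * cI V B :=
      Nat.mul_lt_mul_of_pos_right hcon h4
    have h6 : Nat.card ↥(V ⊓ centralizer (Z : Set H)) * cI V B ≤
        Nat.card ↥(V ⊓ centralizer (Z : Set H)) * cI V Z :=
      Nat.mul_le_mul_left _ h
    omega
  have h7 := Subgroup.eq_of_le_of_card_ge hle h3
  rw [← h7]
  exact inf_le_right

variable {T : Sylow 2 H} {W : Subgroup H}

theorem false_of_triple (C : Ctx T W) {R D B K : Subgroup H} {x u : H} (hR : RData T W R)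
    (hWD : W ≤ D) (hDe : IsElementaryAbelian 2 D) (hDn : D.Normal) (hDT : D ≤ T)
    (hBT : B ≤ T) (hBab : ∀ a ∈ B, ∀ b ∈ B, a * b = b * a)
    (hBsq : ∀ b ∈ B, b ^ 2 ∈ centralizer (D : Set H))
    (hbest : ∀ E ≤ D, cI E B ≤ cI B E)
    (Tr : Triple B K x u R (R ⊓ normalizer (W : Set H))) : False := by
  classical
  haveI := fact2
  set H₀ := normalizer (W : Set H) with hH₀
  set Q := pCore 2 H with hQ
  have hQn : Q.Normal := inferInstance
  have hQT : Q ≤ T := C.pCore_le_T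
  have hTH₀ : (T : Subgroup H) ≤ H₀ := C.norm
  have huH₀ : u ∉ H₀ := fun h => Tr.uX ⟨Tr.uR, h⟩
  set m := orderOf u with hm
  have hxB := Tr.xB
  set K₁ := K ⊔ Q with hK₁
  have hK₁T : K₁ ≤ T := sup_le (Tr.KB.trans hBT) hQT
  have hK₁p : IsPGroup 2 K₁ := T.isPGroup'.to_le hK₁T
  have huN : u ∈ normalizer (K₁ : Set H) := by
    refine mem_normalizer_of_forall_conj_mem ?_
    intro v hv
    obtain ⟨k, hk, q, hq, rfl⟩ := mem_sup_of_normal_right.mp hv
    have h1 : ⁅u, k⁆ ∈ Q := by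
      have h2 := Q.inv_mem (Tr.ku k hk)
      rwa [commutatorElement_inv] at h2
    have e : u * (k * q) * u⁻¹ = ⁅u, k⁆ * k * (u * q * u⁻¹) := by
      simp only [commutatorElement_def]
      group
    rw [e]
    exact mul_mem (mul_mem (mem_sup_right h1) (mem_sup_left hk))
      (mem_sup_right (hQn.conj_mem q hq u))
  have hxN : x ∈ normalizer (K₁ : Set H) := by
    refine mem_normalizer_of_forall_conj_mem ?_
    intro v hv
    obtain ⟨k, hk, q, hq, rfl⟩ := mem_sup_of_normal_right.mp hv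
    have h1 : x * k = k * x := hBab x hxB k (Tr.KB hk)
    have e : x * (k * q) * x⁻¹ = k * (x * q * x⁻¹) := by
      calc x * (k * q) * x⁻¹ = (x * k) * q * x⁻¹ := by group
        _ = (k * x) * q * x⁻¹ := by rw [h1]
        _ = _ := by group
    rw [e]
    exact mul_mem (mem_sup_left hk) (mem_sup_right (hQn.conj_mem q hq x))
  -- the subgroup `D₁`
  set D₁ := Dj W u with hD₁
  have hD₁D : D₁ ≤ D := by
    refine iSup_le fun j => ?_
    rintro _ ⟨w, hw, rfl⟩
    exact hDn.conj_mem _ (hWD hw) _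
  have hWD₁ : W ≤ D₁ := by
    have := le_Dj W u 0
    rwa [Wj_zero] at this
  have hD₁e : IsElementaryAbelian 2 D₁ := ea_mono hDe hD₁D
  have hD₁p : IsPGroup 2 D₁ := T.isPGroup'.to_le (hD₁D.trans hDT)
  have hPW : PP K₁ W := fun C' hC' h1 h2 => C.hG C' (hC'.trans hK₁T) h1 h2
  have hPP : PP K₁ D₁ := PP_Dj huN hPW
  have hCD : centralizer (D : Set H) ≤ centralizer (D₁ : Set H) := centralizer_le hD₁D
  -- normalizers
  have huL : u ∈ normalizer (D₁ : Set H) := u_mem_normalizer_Dj W u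
  have hxL : x ∈ normalizer (D₁ : Set H) :=
    x_mem_normalizer_Dj Tr.rel (hQT.trans hTH₀) (hTH₀ (hBT hxB))
  have hK₁L : K₁ ≤ normalizer (D₁ : Set H) := fun k hk =>
    k_mem_normalizer_Dj (hK₁T.trans hTH₀) huN hk
  -- the module
  set L := normalizer (D₁ : Set H) with hL
  obtain ⟨M, i1, i2, i3, Γ, i4, π, ρ₀, ι, Dr⟩ := exists_br D₁ hD₁e
  set K' : Subgroup L := K₁.subgroupOf L with hK'
  have hK'p : IsPGroup 2 K' := hK₁p.comap_subtype
  have hmemK' : ∀ a : L, a ∈ K' ↔ (a : H) ∈ K₁ := fun a => Iff.rfl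
  have hnorm' : ∀ a : L, (a : H) ∈ normalizer (K₁ : Set H) → a ∈ normalizer (K' : Set L) := by
    intro a ha
    refine mem_normalizer_of_forall_conj_mem ?_
    intro v hv
    exact (mem_normalizer_iff.mp ha _).mp hv
  let u' : L := ⟨u, huL⟩
  let x' : L := ⟨x, hxL⟩
  have hu'N : u' ∈ normalizer (K' : Set L) := hnorm' u' huN
  have hx'N : x' ∈ normalizer (K' : Set L) := hnorm' x' hxN
  have hum : u' ^ m = 1 := Subtype.ext (pow_orderOf_eq_one u)
  have hcop : Nat.Coprime m 6 := Tr.cop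
  have hsq2 : ∀ b ∈ B, ∀ b' : L, (b' : H) = b → ∀ v, (ρ₀.comp π) b' ((ρ₀.comp π) b' v) = v := by
    intro b hb b' e v
    have h1 : (((b' * b' : L)) : H) ∈ centralizer (D₁ : Set H) := by
      have h2 := hCD (hBsq b hb)
      rw [pow_two] at h2
      show (b' : H) * (b' : H) ∈ _
      rw [e]
      exact h2
    have h3 := (Dr.triv_iff (b' * b')).mpr h1 v
    simpa [map_mul, Module.End.mul_apply] using h3
  have hxx : ∀ v, (ρ₀.comp π) x' ((ρ₀.comp π) x' v) = v := hsq2 x hxB x' rfl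
  have hrel : x' * u' * x'⁻¹ * u' ∈ K' := by
    show x * u * x⁻¹ * u ∈ K₁
    exact mem_sup_right Tr.rel
  have hv : ∃ v, (ρ₀.comp π) u' v ≠ v := by
    by_contra hcon
    push_neg at hcon
    have h1 : u ∈ centralizer (D₁ : Set H) := (Dr.triv_iff u').mp hcon
    apply huH₀
    exact centralizer_le_normalizer _ (centralizer_le hWD₁ h1)
  obtain ⟨v₁, v₂, hv₁, hv₂, hv₃⟩ := rank_ge (ρ₀.comp π) hK'p hu'N hx'N hum hcop hxx hrel hv
  have hfx : ∀ v, (x * ι v = ι v * x) → (ρ₀.comp π) x' v + v = 0 := by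
    intro v hvx
    have h1 : ρ₀ (π x') v = v := (Dr.fix_iff x' v).mpr hvx
    show ρ₀ (π x') v + v = 0
    rw [h1]
    exact Cfsg.Agent.Lib.SFourW.Dih.aa v
  have hcI5 : 4 ≤ cI D₁ (zpowers x) := by
    refine four_le_relIndex hD₁p (Dr.mem v₁) (Dr.mem v₂) ?_ ?_ ?_
    · intro h
      exact hv₁ (hfx v₁ (mem_cz.mp h))
    · intro h
      exact hv₂ (hfx v₂ (mem_cz.mp h))
    · rw [← Dr.add]
      intro h
      exact hv₃ (hfx _ (mem_cz.mp h))
  -- the numerics
  have hcI1 : cI D₁ B ≤ cI B D₁ := hbest D₁ hD₁D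
  have hcI2 : cI B D₁ ≤ 2 * cI K D₁ := by
    have := cI_le_mul Tr.KB D₁
    rwa [Tr.idx] at this
  have hKsq : ∀ k ∈ K, k ^ 2 ∈ centralizer (D₁ : Set H) := fun k hk => hCD (hBsq k (Tr.KB hk))
  have hKcomm : ⁅K, K⁆ ≤ centralizer (D₁ : Set H) := by
    rw [commutator_le]
    intro a ha b hb
    have h1 : ⁅a, b⁆ = 1 := by
      rw [commutatorElement_eq_one_iff_mul_comm]
      exact hBab a (Tr.KB ha) b (Tr.KB hb)
    rw [h1]
    exact one_mem _
  have hcI3 : (cI K D₁) ^ 2 ≤ cI D₁ K := hPP K le_sup_left hKcomm hKsq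
  have hcI4 : cI D₁ K ≤ cI D₁ B := cI_mono_right D₁ Tr.KB
  have hcI6 : cI D₁ (zpowers x) ≤ cI D₁ B := cI_mono_right D₁ ((zpowers_le).mpr hxB)
  have hapos : 0 < cI K D₁ := cI_pos _ _
  have ha2 : cI K D₁ = 2 := by
    have h1 : cI K D₁ ≤ 2 := by
      by_contra hcon
      push_neg at hcon
      nlinarith
    omega
  have hx4 : cI D₁ (zpowers x) = 4 := by
    rw [ha2] at hcI2 hcI3
    omega
  have hB4 : cI D₁ B = 4 := by
    rw [ha2] at hcI2 hcI3
    omega
  have hK4 : cI D₁ K = 4 := by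
    rw [ha2] at hcI2 hcI3
    omega
  -- the element `s`
  obtain ⟨s, hsK, hsC⟩ : ∃ s ∈ K, s ∉ centralizer (D₁ : Set H) := by
    by_contra hcon
    push_neg at hcon
    have h1 : cI K D₁ = 1 := cI_eq_one_iff.mpr hcon
    omega
  have hsL : s ∈ L := hK₁L (mem_sup_left hsK)
  let s' : L := ⟨s, hsL⟩
  have hs'K : s' ∈ K' := mem_sup_left hsK
  have hss : ∀ v, (ρ₀.comp π) s' ((ρ₀.comp π) s' v) = v := hsq2 s (Tr.KB hsK) s' rfl
  have hKmul : ∀ k ∈ K, k ∈ centralizer (D₁ : Set H) ∨ k * s ∈ centralizer (D₁ : Set H) := by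
    intro k hk
    by_cases h : k ∈ centralizer (D₁ : Set H)
    · exact Or.inl h
    · refine Or.inr (mul_mem_of_relIndex_le_two ?_ hk hsK h hsC)
      exact ha2.le
  have hfix : ∀ v, (ρ₀.comp π) x' v = v ↔ (ρ₀.comp π) s' v = v := by
    intro v
    have hd := Dr.mem v
    constructor
    · intro h
      have h1 : x * ι v = ι v * x := (Dr.fix_iff x' v).mp h
      have h2 : ι v ∈ centralizer (B : Set H) :=
        le_centralizer_of_cI_le ((zpowers_le).mpr hxB) (by rw [hx4, hB4]) ⟨hd, mem_cz.mpr h1⟩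
      exact (Dr.fix_iff s' v).mpr (mem_centralizer_iff.mp h2 s (Tr.KB hsK))
    · intro h
      have h1 : s * ι v = ι v * s := (Dr.fix_iff s' v).mp h
      have h2 : ι v ∈ centralizer (K : Set H) := by
        refine mem_centralizer_iff.mpr fun k hk => ?_
        rcases hKmul k hk with h3 | h3
        · exact (mem_centralizer_iff.mp h3 _ hd).symm
        · have h4 := mem_centralizer_iff.mp h3 _ hd
          apply mul_right_cancel (b := s)
          calc k * ι v * s = k * (ι v * s) := by rw [mul_assoc]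
            _ = k * (s * ι v) := by rw [h1]
            _ = (k * s) * ι v := by rw [mul_assoc]
            _ = ι v * (k * s) := h4.symm
            _ = ι v * k * s := by rw [mul_assoc]
      have h3 : ι v ∈ centralizer (B : Set H) :=
        le_centralizer_of_cI_le Tr.KB (by rw [hK4, hB4]) ⟨hd, h2⟩
      exact (Dr.fix_iff x' v).mpr (mem_centralizer_iff.mp h3 x hxB)
  have hcard : Nat.card M ≤ 4 * Nat.card (LinearMap.ker (tau (ρ₀.comp π) x')) :=
    (Dr.card_le_iff x').mpr hx4.le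
  obtain ⟨Out, hc₁⟩ := tight_final (ρ₀.comp π) hK'p hu'N hx'N hum hcop hxx hrel hv hs'K hss hfix hcard
  -- the new subgroup
  set e₁' : L := e1 u' s' with he₁'
  set e₂' : L := e1 (u' * u') s' with he₂'
  have he₁K : (e₁' : H) ∈ K₁ := by
    have h1 : u⁻¹ * s * u ∈ K₁ := by
      have := (mem_normalizer_iff.mp (inv_mem huN) s).mp (mem_sup_left hsK)
      rwa [inv_inv] at this
    have h2 : u * s * u⁻¹ ∈ K₁ := (mem_normalizer_iff.mp huN s).mp (mem_sup_left hsK)
    exact mul_mem h1 h2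
  have he₂K : (e₂' : H) ∈ K₁ := by
    have huu : u * u ∈ normalizer (K₁ : Set H) := mul_mem huN huN
    have h1 : (u * u)⁻¹ * s * (u * u) ∈ K₁ := by
      have := (mem_normalizer_iff.mp (inv_mem huu) s).mp (mem_sup_left hsK)
      rwa [inv_inv] at this
    have h2 : (u * u) * s * (u * u)⁻¹ ∈ K₁ := (mem_normalizer_iff.mp huu s).mp (mem_sup_left hsK)
    exact mul_mem h1 h2
  set C' : Subgroup L := closure ({e₁', e₂'} : Set L) with hC'
  set Ch : Subgroup H := C'.map L.subtype with hCh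
  have hChK : Ch ≤ K₁ := by
    rw [hCh, hC', MonoidHom.map_closure, closure_le]
    rintro _ ⟨a, ha, rfl⟩
    rcases ha with rfl | rfl
    · exact he₁K
    · exact he₂K
  have he₁C : (e₁' : H) ∈ Ch := ⟨e₁', subset_closure (by simp), rfl⟩
  have he₂C : (e₂' : H) ∈ Ch := ⟨e₂', subset_closure (by simp), rfl⟩
  -- the images in `Γ`
  have hπe₁ : π e₁' ^ 2 = 1 := by
    apply Dr.faith
    rw [map_pow, map_one]
    ext v
    simpa [pow_two, Module.End.mul_apply] using Out.inv₁ v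
  have hπe₂ : π e₂' ^ 2 = 1 := by
    apply Dr.faith
    rw [map_pow, map_one]
    ext v
    simpa [pow_two, Module.End.mul_apply] using Out.inv₂ v
  have hπc : π e₁' * π e₂' = π e₂' * π e₁' := by
    apply Dr.faith
    rw [map_mul, map_mul]
    ext v
    simpa [Module.End.mul_apply] using Out.comm v
  have hΓe : IsElementaryAbelian 2 (closure ({π e₁', π e₂'} : Set Γ)) := by
    refine Cfsg.Agent.Lib.QuadAct.OmegaZ.isElementaryAbelian_closure ?_ ?_
    · rintro a (rfl | rfl) b (rfl | rfl)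
      · rfl
      · exact hπc
      · exact hπc.symm
      · rfl
    · rintro a (rfl | rfl)
      · exact hπe₁
      · exact hπe₂
  have hπC : ∀ c ∈ C', π c ∈ closure ({π e₁', π e₂'} : Set Γ) := by
    intro c hc
    have h1 : π c ∈ C'.map π := mem_map_of_mem π hc
    rw [hC', MonoidHom.map_closure, Set.image_pair] at h1
    exact h1
  have hCc : ⁅Ch, Ch⁆ ≤ centralizer (D₁ : Set H) := by
    rw [commutator_le]
    rintro _ ⟨a, ha, rfl⟩ _ ⟨b, hb, rfl⟩
    have h1 : π ⁅a, b⁆ = 1 := by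
      rw [map_commutatorElement, commutatorElement_eq_one_iff_mul_comm]
      exact Cfsg.Agent.Lib.QuadAct.Basic.comm_of_isMulCommutative hΓe.1 (hπC a ha) (hπC b hb)
    exact (Dr.ker _).mp h1
  have hCs : ∀ c ∈ Ch, c ^ 2 ∈ centralizer (D₁ : Set H) := by
    rintro _ ⟨a, ha, rfl⟩
    have h1 : π (a ^ 2) = 1 := by
      rw [map_pow]
      exact hΓe.2 _ (hπC a ha)
    exact (Dr.ker _).mp h1
  have h16 := hPP Ch hChK hCc hCs
  have hCp : IsPGroup 2 Ch := hK₁p.to_le hChK
  have hlow : 4 ≤ cI Ch D₁ := by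
    refine four_le_relIndex hCp he₁C he₂C ?_ ?_ ?_
    · intro h
      obtain ⟨v, hv⟩ := Out.ne₁
      exact hv ((Dr.triv_iff e₁').mpr h v)
    · intro h
      obtain ⟨v, hv⟩ := Out.ne₂
      exact hv ((Dr.triv_iff e₂').mpr h v)
    · intro h
      obtain ⟨v, hv⟩ := Out.ne₁₂
      have h1 := (Dr.triv_iff (e₁' * e₂')).mpr h v
      apply hv
      simpa [map_mul, Module.End.mul_apply] using h1
  have hup : cI D₁ Ch ≤ 4 := by
    refine le_trans (cI_le_of_inf_le ?_) ((Dr.card_le_iff e₁').mp hc₁)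
    rintro d ⟨hd, hd2⟩
    refine ⟨hd, ?_⟩
    obtain ⟨v, rfl⟩ := Dr.surj d hd
    have h1 : (e₁' : H) * ι v = ι v * (e₁' : H) := mem_cz.mp hd2
    have h2 : (ρ₀.comp π) e₁' v = v := (Dr.fix_iff e₁' v).mpr h1
    have h3 : (ρ₀.comp π) e₂' v = v := Out.le v h2
    have h4 : (e₂' : H) * ι v = ι v * (e₂' : H) := (Dr.fix_iff e₂' v).mp h3
    have h5 : Ch ≤ centralizer (({ι v} : Set H)) := by
      rw [hCh, hC', MonoidHom.map_closure, closure_le]
      rintro _ ⟨a, ha, rfl⟩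
      refine mem_centralizer_iff.mpr ?_
      rintro _ rfl
      rcases ha with rfl | rfl
      · exact h1.symm
      · exact h4.symm
    refine mem_centralizer_iff.mpr fun c hc => ?_
    exact (mem_centralizer_iff.mp (h5 hc) _ rfl).symm
  have h17 : 4 ^ 2 ≤ (cI Ch D₁) ^ 2 := Nat.pow_le_pow_left hlow 2
  omega

end Cfsg.Agent.Lib.SFourW.StepT
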