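import Cfsg.Agent.Lib.SFourW.GSec
import Cfsg.Agent.Lib.Core.CoprimeMap

/-!
# The structure of a minimal overgroup of a Sylow `2`-subgroup not normalizing `W`
-/

set_option autoImplicit false
set_option linter.unusedSectionVars false
set_option linter.unusedSimpArgs false
set_option linter.unusedVariables false
set_option linter.style.haveILetI false

namespace Cfsg.Agent.Lib.SFourW.Struct

open Subgroup Cfsg
open scoped commutatorElement
open Cfsg.Agent.Lib.SFourW.Idx Cfsg.Agent.Lib.SFourW.ML Cfsg.Agent.Lib.SFourW.GSec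
open Cfsg.Agent.Lib.PLocal.Thompson Cfsg.Agent.Lib.Core.Basic
open Cfsg.Agent.Lib.QuadAct.ZJ
open Cfsg.Agent.Lib.Core.CoprimeMap (mem_normalizer_of_forall_conj_mem)

universe u

variable {H : Type u} [Group H] [Finite H]

/-- The context of a minimal counterexample. -/
structure Ctx (T : Sylow 2 H) (W : Subgroup H) : Prop where
  solv : Group.IsSolvable H
  s4 : ¬ Involves (Equiv.Perm (Fin 4)) H
  cen : centralizer (pCore 2 H : Set H) ≤ pCore 2 H
  le : W ≤ T
  norm : (T : Subgroup H) ≤ normalizer (W : Set H)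
  ea : IsElementaryAbelian 2 W
  hG : ∀ B : Subgroup H, B ≤ T → ⁅B, B⁆ ≤ centralizer (W : Set H) →
    (∀ b ∈ B, b ^ 2 ∈ centralizer (W : Set H)) → (cI B W) ^ 2 ≤ cI W B
  hNJ : normalizer (jOf 0 (T : Subgroup H) : Set H) ≤ normalizer (W : Set H)
  hmin : ∀ H' : Subgroup H, H' ≠ ⊤ → (T : Subgroup H) ≤ H' → H' ≤ normalizer (W : Set H)
  hne : normalizer (W : Set H) ≠ ⊤

variable {T : Sylow 2 H} {W : Subgroup H}

theorem fact2 : Fact (Nat.Prime 2) := ⟨Nat.prime_two⟩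

namespace Ctx

variable (C : Ctx T W)
include C

theorem pCore_le_T : pCore 2 H ≤ T := by
  haveI := fact2
  exact pCore_le_sylow T

theorem isP_pCore : IsPGroup 2 (pCore 2 H) := by
  haveI := fact2
  exact pCore_isPGroup

/-- Normal subgroups inside `N(W)` meet `T` inside `O₂`. -/
theorem inf_le_pCore (E : Subgroup H) [hE : E.Normal] (hle : E ≤ normalizer (W : Set H)) :
    (T : Subgroup H) ⊓ E ≤ pCore 2 H := by
  haveI := fact2
  have hTN : (T : Subgroup H) ≤ normalizer (((T : Subgroup H) ⊓ E : Subgroup H) : Set H) := by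
    intro t ht
    refine mem_normalizer_of_forall_conj_mem ?_
    rintro v ⟨hv1, hv2⟩
    exact ⟨T.1.mul_mem (T.1.mul_mem ht hv1) (T.1.inv_mem ht), hE.conj_mem v hv2 t⟩
  by_cases htop : normalizer (((T : Subgroup H) ⊓ E : Subgroup H) : Set H) = ⊤
  · have hn := normalizer_eq_top_iff.mp htop
    exact le_pCore hn (T.isPGroup'.to_le inf_le_left)
  · exfalso
    apply C.hne
    rw [eq_top_iff]
    intro g _
    obtain ⟨n, hn, c, hc, rfl⟩ := exists_mul_of_sylow T E g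
    exact mul_mem (C.hmin _ htop hTN hn) (hle hc)

/-- There is no section `S₃` of `H / O₂(H)`. -/
theorem not_involves_s3 : ¬ Involves (Equiv.Perm (Fin 3)) (H ⧸ pCore 2 H) := by
  haveI := fact2
  intro h
  set Q := pCore 2 H with hQ
  have hker : ∀ c ∈ centralizer (Q : Set H), QuotientGroup.mk' Q c = 1 := by
    intro c hc
    rw [QuotientGroup.mk'_apply, QuotientGroup.eq_one_iff]
    exact C.cen hc
  let f : H ⧸ centralizer (Q : Set H) →* H ⧸ Q :=
    QuotientGroup.lift _ (QuotientGroup.mk' Q) hker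
  have hf : Function.Surjective f := by
    intro q
    obtain ⟨g, rfl⟩ := QuotientGroup.mk_surjective q
    exact ⟨QuotientGroup.mk g, rfl⟩
  have h1 := Cfsg.Agent.Lib.PReduced.Sections.involves_comap f hf h
  exact C.s4 (Cfsg.Agent.Lib.SFourFree.ClassTwoC.involves_sfour_of_quot Q pCore_isPGroup h1)

/-- The subgroup `R`. -/
structure RData (T : Sylow 2 H) (W R : Subgroup H) : Prop where
  n : R.Normal
  leQ : pCore 2 H ≤ R
  inf : (T : Subgroup H) ⊓ R ≤ pCore 2 H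
  not : ¬ R ≤ normalizer (W : Set H)
  nX : (R ⊓ normalizer (W : Set H)).Normal
  top : (T : Subgroup H) ⊔ R = ⊤
  odd : ∀ r ∈ R, ∃ n, Odd n ∧ r ^ n ∈ pCore 2 H

theorem exists_R : ∃ R : Subgroup H, RData T W R := by
  classical
  haveI := fact2
  haveI := C.solv
  set H₀ := normalizer (W : Set H) with hH₀
  set Q := pCore 2 H with hQ
  have hQn : Q.Normal := inferInstance
  have hTH₀ : (T : Subgroup H) ≤ H₀ := C.norm
  have hQT : Q ≤ T := C.pCore_le_T
  let F : Set (Subgroup H) := {N | N.Normal ∧ ¬ N ≤ H₀}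
  have hF : F.Nonempty := ⟨⊤, inferInstance, fun h => C.hne (top_le_iff.mp h)⟩
  obtain ⟨R₁, hR₁⟩ := (Set.toFinite F).exists_minimal hF
  obtain ⟨hR₁n, hR₁not⟩ := hR₁.1
  haveI := hR₁n
  have hcomm : ⁅R₁, R₁⁆ ≤ H₀ := by
    by_contra hcon
    have hmem : ⁅R₁, R₁⁆ ∈ F := ⟨inferInstance, hcon⟩
    have h1 := hR₁.2 hmem (commutator_le_left R₁ R₁)
    have hne : R₁ ≠ ⊥ := by
      rintro rfl
      exact hR₁not bot_le
    have h2 := IsSolvable.commutator_lt_of_ne_bot hne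
    exact absurd h1 (not_le_of_gt h2)
  have htop₁ : (T : Subgroup H) ⊔ R₁ = ⊤ := by
    by_contra h
    have h1 := C.hmin _ h le_sup_left
    exact hR₁not (le_sup_right.trans h1)
  have hX₁ : (R₁ ⊓ H₀).Normal := by
    constructor
    rintro n ⟨hn1, hn2⟩ g
    have hg : g ∈ (T : Subgroup H) ⊔ R₁ := by
      rw [htop₁]
      trivial
    obtain ⟨t, ht, r, hr, rfl⟩ := mem_sup_of_normal_right.mp hg
    have h1 : r * n * r⁻¹ ∈ R₁ := hR₁n.conj_mem n hn1 r
    have h2 : ⁅r, n⁆ ∈ ⁅R₁, R₁⁆ := commutator_mem_commutator hr hn1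
    have h3 : r * n * r⁻¹ ∈ H₀ := by
      have e : r * n * r⁻¹ = ⁅r, n⁆ * n := by
        simp only [commutatorElement_def]
        group
      rw [e]
      exact mul_mem (hcomm h2) hn2
    have e : t * r * n * (t * r)⁻¹ = t * (r * n * r⁻¹) * t⁻¹ := by group
    rw [e]
    exact ⟨hR₁n.conj_mem _ h1 t, H₀.mul_mem (H₀.mul_mem (hTH₀ ht) h3) (H₀.inv_mem (hTH₀ ht))⟩
  haveI := hX₁
  have hinf₁ : (T : Subgroup H) ⊓ R₁ ≤ Q := by
    have h1 := C.inf_le_pCore (R₁ ⊓ H₀) inf_le_right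
    rintro x ⟨hx1, hx2⟩
    exact h1 ⟨hx1, hx2, hTH₀ hx1⟩
  refine ⟨R₁ ⊔ Q, ⟨inferInstance, le_sup_right, ?_, fun h => hR₁not (le_sup_left.trans h), ?_, ?_, ?_⟩⟩
  · rintro x ⟨hx1, hx2⟩
    obtain ⟨r, hr, q, hq, rfl⟩ := mem_sup_of_normal_right.mp hx2
    have hrT : r ∈ (T : Subgroup H) := by
      have e : r = r * q * q⁻¹ := by group
      rw [e]
      exact (T : Subgroup H).mul_mem hx1 ((T : Subgroup H).inv_mem (hQT hq))
    exact mul_mem (hinf₁ ⟨hrT, hr⟩) hq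
  · have e : (R₁ ⊔ Q) ⊓ H₀ = (R₁ ⊓ H₀) ⊔ Q := by
      apply le_antisymm
      · rintro x ⟨hx1, hx2⟩
        obtain ⟨r, hr, q, hq, rfl⟩ := mem_sup_of_normal_right.mp hx1
        have hrH : r ∈ H₀ := by
          have e : r = r * q * q⁻¹ := by group
          rw [e]
          exact mul_mem hx2 (inv_mem (hTH₀ (hQT hq)))
        exact mul_mem (mem_sup_left ⟨hr, hrH⟩) (mem_sup_right hq)
      · exact sup_le (inf_le_inf_right _ le_sup_left) (le_inf le_sup_right (hQT.trans hTH₀))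
    rw [e]
    infer_instance
  · rw [eq_top_iff, ← htop₁]
    exact sup_le_sup_left le_sup_left _
  · intro r hr
    obtain ⟨a, c, hc, hN⟩ := Nat.exists_eq_two_pow_mul_odd (orderOf_pos r).ne'
    refine ⟨c, hc, ?_⟩
    have h2 : (r ^ c) ^ 2 ^ a = 1 := by
      rw [← pow_mul, mul_comm, ← hN, pow_orderOf_eq_one]
    have hp : IsPGroup 2 (zpowers (r ^ c)) := by
      rw [IsPGroup.iff_card]
      have h3 : orderOf (r ^ c) ∣ 2 ^ a := orderOf_dvd_of_pow_eq_one h2
      obtain ⟨b, -, hb⟩ := (Nat.dvd_prime_pow Nat.prime_two).mp h3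
      exact ⟨b, by rw [Nat.card_zpowers, hb]⟩
    obtain ⟨S, hS⟩ := hp.exists_le_sylow
    obtain ⟨g, rfl⟩ := MulAction.exists_smul_eq H T S
    have h4 : r ^ c ∈ ((g • T : Sylow 2 H) : Subgroup H) := hS (mem_zpowers _)
    rw [Sylow.coe_subgroup_smul, Subgroup.mem_pointwise_smul_iff_inv_smul_mem] at h4
    have h5 : g⁻¹ * r ^ c * g ∈ (T : Subgroup H) := by
      have e5 : (g⁻¹ * r * g) ^ c = g⁻¹ * r ^ c * g := by
        have := conj_pow (a := g⁻¹) (b := r) (i := c)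
        simpa using this
      rw [← e5]
      simpa [MulAut.smul_def, MulAut.conj_apply] using h4
    have hRn : (R₁ ⊔ Q).Normal := inferInstance
    have h6 : g⁻¹ * r ^ c * g ∈ R₁ ⊔ Q := by
      have := hRn.conj_mem _ (pow_mem hr c) g⁻¹
      rwa [inv_inv] at this
    obtain ⟨r', hr', q, hq, e⟩ := mem_sup_of_normal_right.mp h6
    have hr'T : r' ∈ (T : Subgroup H) := by
      have e' : r' = g⁻¹ * r ^ c * g * q⁻¹ := by rw [← e]; group
      rw [e']
      exact mul_mem h5 (inv_mem (hQT hq))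
    have h7 : g⁻¹ * r ^ c * g ∈ Q := by
      rw [← e]
      exact mul_mem (hinf₁ ⟨hr'T, hr'⟩) hq
    have h8 := hQn.conj_mem _ h7 g
    have e2 : g * (g⁻¹ * r ^ c * g) * g⁻¹ = r ^ c := by group
    rwa [e2] at h8

/-- The data produced by a non-trivial action on `R / X`. -/
structure Triple (B K : Subgroup H) (x u : H) (R X : Subgroup H) : Prop where
  KB : K ≤ B
  idx : K.relIndex B = 2
  xB : x ∈ B
  xK : x ∉ K
  uR : u ∈ R
  uX : u ∉ X
  odd : Odd (orderOf u)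
  cop : (orderOf u).Coprime 6
  ku : ∀ k ∈ K, ⁅k, u⁆ ∈ pCore 2 H
  rel : x * u * x⁻¹ * u ∈ pCore 2 H
  QK : B ⊓ pCore 2 H ≤ K

theorem exists_triple {R : Subgroup H} (hR : RData T W R) (B : Subgroup H)
    (hB1 : ⁅B, B⁆ ≤ pCore 2 H) (hB2 : ∀ b ∈ B, b ^ 2 ∈ pCore 2 H)
    (hne : ∃ r ∈ R, ∃ b ∈ B, r⁻¹ * b * r * b⁻¹ ∉ R ⊓ normalizer (W : Set H)) :
    ∃ K x u, Triple B K x u R (R ⊓ normalizer (W : Set H)) := by
  classical
  haveI := fact2
  set H₀ := normalizer (W : Set H) with hH₀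
  set Q := pCore 2 H with hQ
  have hQn : Q.Normal := inferInstance
  haveI hRn := hR.n
  haveI hXn := hR.nX
  have hQT : Q ≤ T := C.pCore_le_T
  have hQX : Q ≤ R ⊓ H₀ := le_inf hR.leQ (hQT.trans C.norm)
  let π := QuotientGroup.mk' Q
  have hπs : Function.Surjective π := QuotientGroup.mk'_surjective Q
  have hπ1 : ∀ g, π g = 1 ↔ g ∈ Q := fun g => by
    rw [QuotientGroup.mk'_apply, QuotientGroup.eq_one_iff]
  have hBe : IsElementaryAbelian 2 (B.map π) := by
    refine ⟨⟨⟨?_⟩⟩, ?_⟩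
    · rintro ⟨_, a, ha, rfl⟩ ⟨_, b, hb, rfl⟩
      apply Subtype.ext
      exact mk_comm_eq_one (hB1 (commutator_mem_commutator ha hb))
    · rintro _ ⟨a, ha, rfl⟩
      rw [← map_pow, hπ1]
      exact hB2 a ha
  have hRodd : ¬ 2 ∣ Nat.card (R.map π) := by
    intro h
    obtain ⟨z, hz⟩ := exists_prime_orderOf_dvd_card' (G := ↥(R.map π)) 2 h
    obtain ⟨_, r, hr, rfl⟩ := z
    obtain ⟨n, hn, hrn⟩ := hR.odd r hr
    have h1 : (⟨π r, mem_map_of_mem π hr⟩ : R.map π) ^ n = 1 := by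
      apply Subtype.ext
      show (π r) ^ n = 1
      rw [← map_pow, hπ1]
      exact hrn
    have h2 := orderOf_dvd_of_pow_eq_one h1
    rw [hz] at h2
    exact (Nat.not_even_iff_odd.mpr hn) (even_iff_two_dvd.mpr h2)
  have hRbar : (R.map π).Normal := Subgroup.Normal.map hRn π hπs
  have hXbar : ((R ⊓ H₀).map π).Normal := Subgroup.Normal.map hXn π hπs
  have hne' : ∃ r ∈ R.map π, ∃ b ∈ B.map π, r⁻¹ * b * r * b⁻¹ ∉ (R ⊓ H₀).map π := by
    obtain ⟨r, hr, b, hb, hz⟩ := hne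
    refine ⟨π r, mem_map_of_mem π hr, π b, mem_map_of_mem π hb, ?_⟩
    rintro ⟨y, hy, e⟩
    apply hz
    have e2 : π (y⁻¹ * (r⁻¹ * b * r * b⁻¹)) = 1 := by
      rw [map_mul, map_inv, e, map_mul, map_mul, map_mul, map_inv, map_inv]
      group
    have h3 := hQX ((hπ1 _).mp e2)
    have e3 : r⁻¹ * b * r * b⁻¹ = y * (y⁻¹ * (r⁻¹ * b * r * b⁻¹)) := by group
    rw [e3]
    exact mul_mem hy h3
  obtain ⟨K', hK'B, hK'i, x', hx'B, hx'K, i, hiR, hiY, hK'c, hxi⟩ := exists_inverted hBe hRodd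
    (by rw [normalizer_eq_top_iff.mpr hRbar]; exact le_top) (map_mono inf_le_left)
    (fun r _ y hy => hXbar.conj_mem y hy r) hne'
  obtain ⟨x, hxB, rfl⟩ := hx'B
  obtain ⟨l, hlR, rfl⟩ := hiR
  have hx2 : π x * π x = 1 := by
    rw [← map_mul, hπ1, ← pow_two]
    exact hB2 x hxB
  have hSn := C.not_involves_s3
  -- the order of the image
  obtain ⟨n, hn, hln⟩ := hR.odd l hlR
  have hin : (π l) ^ n = 1 := by
    rw [← map_pow, hπ1]
    exact hln
  have hodd₀ : Odd (orderOf (π l)) := Odd.of_dvd_nat hn (orderOf_dvd_of_pow_eq_one hin)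
  have hco₂ : (orderOf (π l)).Coprime 2 := (Nat.coprime_two_right).mpr hodd₀
  have hco₆ : (orderOf (π l)).Coprime 6 := coprime_six_of_inverted hco₂ hx2 hxi hSn
  set o := orderOf (π l) with ho
  have hil1 : π l ≠ 1 := by
    intro e
    apply hiY
    rw [e]
    exact one_mem _
  have ho1 : 1 < o := by
    have h1 : o ≠ 1 := fun e => hil1 (orderOf_eq_one_iff.mp e)
    have h2 : 0 < o := orderOf_pos _
    omega
  -- the odd part
  obtain ⟨a, c, hc, hN⟩ := Nat.exists_eq_two_pow_mul_odd (orderOf_pos l).ne'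
  have hco₃ : Nat.Coprime (2 ^ a) o := Nat.Coprime.pow_left a hco₂.symm
  obtain ⟨e, he⟩ := Nat.exists_mul_mod_eq_one_of_coprime hco₃ ho1
  set u := (l ^ 2 ^ a) ^ e with hu
  have huc : u ^ c = 1 := by
    rw [hu, ← pow_mul, ← pow_mul, mul_comm e c, ← mul_assoc, ← hN, pow_mul, pow_orderOf_eq_one,
      one_pow]
  have huodd : Odd (orderOf u) := Odd.of_dvd_nat hc (orderOf_dvd_of_pow_eq_one huc)
  have hπu : π u = π l := by
    rw [hu, map_pow, map_pow, ← pow_mul, pow_eq_pow_mod _ (pow_orderOf_eq_one (π l)), he.2, pow_one]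
  have huR : u ∈ R := pow_mem (pow_mem hlR _) _
  have huX : u ∉ R ⊓ H₀ := by
    intro h
    apply hiY
    rw [← hπu]
    exact mem_map_of_mem π h
  have huo : u ^ o = 1 := by
    have h1 : u ^ o ∈ Q := by
      rw [← hπ1, map_pow, hπu, ho, pow_orderOf_eq_one]
    obtain ⟨k, hk⟩ := C.isP_pCore ⟨u ^ o, h1⟩
    have h2 : (u ^ o) ^ 2 ^ k = 1 := by
      have := congrArg Subtype.val hk
      simpa using this
    have h3 : orderOf (u ^ o) ∣ 2 ^ k := orderOf_dvd_of_pow_eq_one h2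
    have h4 : orderOf (u ^ o) ∣ orderOf u := orderOf_pow_dvd o
    have h5 : Nat.Coprime (2 ^ k) (orderOf u) :=
      Nat.Coprime.pow_left k ((Nat.coprime_two_left).mpr huodd)
    have h6 : orderOf (u ^ o) = 1 := Nat.eq_one_of_dvd_coprimes h5 h3 h4
    exact orderOf_eq_one_iff.mp h6
  have hco : (orderOf u).Coprime 6 :=
    Nat.Coprime.coprime_dvd_left (orderOf_dvd_of_pow_eq_one huo) hco₆
  refine ⟨B ⊓ K'.comap π, x, u, ⟨inf_le_left, ?_, hxB, fun h => hx'K h.2, huR, huX, huodd, hco, ?_, ?_, ?_⟩⟩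
  · rw [inf_relIndex_left, relIndex_comap]
    exact hK'i
  · rintro k ⟨-, hk⟩
    apply comm_mem_of_mk
    show π k * π u = π u * π k
    rw [hπu]
    exact hK'c _ hk
  · rw [← hπ1, map_mul, map_mul, map_mul, map_inv, hπu, hxi]
    group
  · rintro b ⟨hb1, hb2⟩
    refine ⟨hb1, ?_⟩
    show π b ∈ K'
    rw [(hπ1 b).mpr hb2]
    exact one_mem _

end Ctx

end Cfsg.Agent.Lib.SFourW.Struct
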